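import Groth.Agent.AlgStSetoidLib.Basic

/-!
# A stack with a smooth covering by an algebraic space is algebraic
-/

set_option linter.all false
set_option autoImplicit false
set_option backward.isDefEq.respectTransparency false
set_option backward.isDefEq.respectTransparency.types false

universe u

open CategoryTheory CategoryTheory.Limits AlgebraicGeometry Opposite AlgSp FibCat FibLib AlgSpLib
open CategoryTheory.Functor (Fiber)

namespace AlgStSetoidLib
open AlgStLib AlgStBig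

variable {S : Scheme.{u}} {𝒳 𝒰 : AlgSt.Cat S}

/-- The diagonal of a stack with an fppf covering by an algebraic space is representable by algebraic spaces. -/
theorem repByAlgSp_fp_of_cover (h𝒳 : Stk.IsStack (AlgSp.J S) 𝒳) (hU : AlgSt.RepByAlgSp 𝒰)
    (u : 𝒰 ⥤ᵇ 𝒳) (hfl : AlgSt.RepByAlgSpWith (LocP @Flat) u)
    (hfp : AlgSt.RepByAlgSpWith (LocP @LocallyOfFinitePresentation) u)
    (hus : AlgSt.RepByAlgSpWith IsSurjectiveMor u) (U V : Over S)
    (a : overCat U ⥤ᵇ 𝒳) (b : overCat V ⥤ᵇ 𝒳) : AlgSt.RepByAlgSp (fp a b) := by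
  haveI := h𝒳.1
  haveI := AlgStBig.isFibGrpd_of_repByAlgSp hU
  haveI := AlgStBig.isFibGrpd_overCat U
  haveI := AlgStBig.isFibGrpd_overCat V
  haveI : IsFibGrpd (fp a b).p := isFibGrpd_fp
  haveI : IsFibGrpd (fp a u).p := isFibGrpd_fp
  haveI : IsFibGrpd (fp u b).p := isFibGrpd_fp
  haveI : IsFibGrpd (fp b u).p := isFibGrpd_fp
  have hu1 : AlgSt.RepByAlgSp1 u := repByAlgSp1_of_with hfl
  have hA : AlgSt.RepByAlgSp (fp a u) := hu1 U a
  have hB : AlgSt.RepByAlgSp (fp u b) :=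
    AlgStBig.RepByAlgSp.of_equivTo (AlgStBig.equivTo_fp_swap u b) (hu1 V b)
  have hb1 : AlgSt.RepByAlgSp1 (FibCat.fpFst u b) := repByAlgSp1_of_repByAlgSp hB hU _
  have hC : AlgSt.RepByAlgSp (fp (FibCat.fpSnd a u) (FibCat.fpFst u b)) :=
    AlgStBig.repByAlgSp_fp (FibCat.fpSnd a u) hb1 hA
  have hW : AlgSt.RepByAlgSp (fp (FibCat.fpFst a b) (FibCat.fpFst a u)) := by
    refine AlgStBig.RepByAlgSp.of_equivTo ?_ hC
    exact (AlgStBig.equivTo_fp_swap _ _).trans (EquivTo.trans (equivTo_fp_paste _ _ _)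
      ((equivTo_fp_congr (fpIso a u).symm (Iso.refl b)).trans (EquivTo.symm (equivTo_fp_paste (FibCat.fpSnd a u) u b))))
  have hst : Stk.IsStack (AlgSp.J S) (fp a b) :=
    AlgStLib.isStack_fp (isStack_of_repByAlgSp (repByAlgSp_overCat U))
      (isStack_of_repByAlgSp (repByAlgSp_overCat V)) (isPrestack_of_isStack h𝒳)
  have hset : IsFibSetoid (fp a b).p :=
    isFibSetoid_fp' (isFibSetoid_of_repByAlgSp (repByAlgSp_overCat U))
      (isFibSetoid_of_repByAlgSp (repByAlgSp_overCat V))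
  have tr : ∀ {Q : MorphismProperty (Sp S)}, AlgSt.RepByAlgSpWith Q u →
      AlgSt.RepByAlgSpWith Q (FibCat.fpFst (FibCat.fpFst a b) (FibCat.fpFst a u)) := fun {Q} h =>
    repByAlgSpWith_fpFst Q _ (repByAlgSpWith_fpFst Q a h)
  exact repByAlgSp_of_setoid_cover hst hset hW _ (tr hfl) (tr hfp) (tr hus)

theorem isAlgStack_of_cover (h𝒳 : Stk.IsStack (AlgSp.J S) 𝒳) (hU : AlgSt.RepByAlgSp 𝒰)
    (u : 𝒰 ⥤ᵇ 𝒳) (hsm : AlgSt.RepByAlgSpWith (LocP @Smooth) u)
    (hus : AlgSt.RepByAlgSpWith IsSurjectiveMor u) : AlgSt.IsAlgStack Scheme.fppfPrecoverage 𝒳 := by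
  haveI := h𝒳.1
  refine ⟨h𝒳, repByAlgSp1_diag_iff.mpr fun U x V y => ?_,
    hasAtlas_of_space good_smooth (fun _ _ _ h => locP_smooth_of_isEtaleMor h) hU u hsm hus⟩
  exact repByAlgSp_fp_of_cover h𝒳 hU u
    (repByAlgSpWith_mono (fun _ _ _ _ _ h => locP_flat_of_smooth h) hsm)
    (repByAlgSpWith_mono (fun _ _ _ _ _ h => locP_lfp_of_smooth h) hsm) hus V U y x

end AlgStSetoidLib
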