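import Groth.Agent.AlgStBig.Rows4
import Groth.Agent.AlgStBig.MonoFull
import Groth.Agent.AlgStBig.PointsTop
import Groth.Agent.S10104

/-!
# Algebraic stacks in setoids are algebraic spaces; faithful functors are representable
-/

set_option linter.all false
set_option autoImplicit false
set_option backward.isDefEq.respectTransparency false
set_option backward.isDefEq.respectTransparency.types false

universe u

open CategoryTheory CategoryTheory.Limits AlgebraicGeometry Opposite AlgSp FibCat FibLib AlgSpLib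
open CategoryTheory.Functor (Fiber)

namespace AlgStSetoidLib
open AlgStLib AlgStBig

variable {S : Scheme.{u}} {𝒳 𝒴 : AlgSt.Cat S}

/-- A stack in setoids with an fppf covering by an algebraic space is representable by an algebraic space. -/
theorem repByAlgSp_of_setoid_cover (hst : Stk.IsStack (AlgSp.J S) 𝒳) (hs : IsFibSetoid 𝒳.p)
    {𝒰 : AlgSt.Cat S} (hU : AlgSt.RepByAlgSp 𝒰) (x : 𝒰 ⥤ᵇ 𝒳)
    (hfl : AlgSt.RepByAlgSpWith (LocP @Flat) x)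
    (hfp : AlgSt.RepByAlgSpWith (LocP @LocallyOfFinitePresentation) x)
    (hxs : AlgSt.RepByAlgSpWith IsSurjectiveMor x) : AlgSt.RepByAlgSp 𝒳 := by
  obtain ⟨P, e, he⟩ := exists_ofPsh_equiv hs
  have hP : Presheaf.IsSheaf (AlgSp.J S) P :=
    (isSheaf_iff_isSheaf_of_type _ _).mpr
      (isStack_ofPsh_iff.mp ((AlgStLib.isStack_iff_of_isEquivOver he).mpr hst))
  let F : Sp S := ⟨P, hP⟩
  suffices hF : IsAlgSpace F from ⟨⟨F, hF⟩, e, he⟩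
  obtain ⟨G, e₀, he₀⟩ := hU
  haveI := hst.1
  haveI : IsFibGrpd 𝒰.p := AlgStBig.isFibGrpd_of_repByAlgSp ⟨G, e₀, he₀⟩
  haveI : IsFibGrpd (Stk.ofPsh P).p := isFibSetoid_ofPsh.1
  haveI : IsFibGrpd (AlgSt.ofSp G.obj).p := isFibSetoid_ofPsh.1
  obtain ⟨e', he', -, ⟨β⟩⟩ := AlgStLib.exists_inverse he
  let x' : AlgSt.ofSp G.obj ⥤ᵇ AlgSt.ofSp F := BasedFunctor.comp (BasedFunctor.comp e₀ x) e'
  obtain ⟨α⟩ := nonempty_iso_mapOf x'
  let a : G.obj ⟶ F := ObjectProperty.homMk (mapOf x')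
  have hsq : BasedFunctor.comp x' e ≅ BasedFunctor.comp e₀ x :=
    whiskerLeftIso' (BasedFunctor.comp e₀ x) β
  have tr : ∀ {Q : MorphismProperty (Sp S)}, AlgSt.RepByAlgSpWith Q x →
      AlgSt.RepByAlgSpWith Q (Stk.ofPshMap a.hom) := fun {Q} h =>
    repByAlgSpWith_congr α
      ((repByAlgSpWith_square_iff he₀ he hsq Q).mp h)
  have h1 := repByAlgSpWith_inf good_flat.bc.precomp_iso hxs hfl
  have h2 := repByAlgSpWith_inf good_lfp.bc.precomp_iso h1 hfp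
  have h3 := tr h2
  refine Groth.Agent.S10104.result S F G a ?_
  intro V ξ F' fst snd sq
  obtain ⟨H, π, hH, hπ, hQ⟩ := (repByAlgSpWith_iff _ _).mp h3 V (Stk.ofPshMap ξ)
  obtain ⟨i, hi⟩ := Along.unique (along_ofPshMap sq) hπ
  have hs' : Presheaf.IsSheaf (AlgSp.J S) F' := (Presheaf.isSheaf_of_iso_iff i).2 H.property
  let i' : (⟨F', hs'⟩ : Sp S) ≅ H := (fullyFaithfulSheafToPresheaf (AlgSp.J S) _).preimageIso i
  refine ⟨hs', hH.of_iso i'.symm, ?_⟩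
  have e0 : (ObjectProperty.homMk snd : (⟨F', hs'⟩ : Sp S) ⟶ (yon S).obj V) = i'.hom ≫ π :=
    ObjectProperty.hom_ext _ hi.symm
  rw [e0]
  exact ⟨⟨good_surjective.bc.precomp_iso i' π hH (IsAlgSpace.yon_obj V) hQ.1.1,
    good_flat.bc.precomp_iso i' π hH (IsAlgSpace.yon_obj V) hQ.1.2⟩,
    good_lfp.bc.precomp_iso i' π hH (IsAlgSpace.yon_obj V) hQ.2⟩

/-- An algebraic stack in setoids is representable by an algebraic space. -/
theorem repByAlgSp_of_isFibSetoid (h𝒳 : AlgSt.IsAlgStack Scheme.fppfPrecoverage 𝒳)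
    (hs : IsFibSetoid 𝒳.p) : AlgSt.RepByAlgSp 𝒳 := by
  obtain ⟨U, x, hx, hxs⟩ := h𝒳.atlas
  exact repByAlgSp_of_setoid_cover h𝒳.isStack hs (repByAlgSp_overCat U) x
    (repByAlgSpWith_mono (fun _ _ _ _ _ h => locP_flat_of_smooth h) hx)
    (repByAlgSpWith_mono (fun _ _ _ _ _ h => locP_lfp_of_smooth h) hx) hxs

theorem isFibSetoid_iff (h𝒳 : AlgSt.IsAlgStack Scheme.fppfPrecoverage 𝒳) :
    IsFibSetoid 𝒳.p ↔ AlgSt.RepByAlgSp 𝒳 :=
  ⟨repByAlgSp_of_isFibSetoid h𝒳, isFibSetoid_of_repByAlgSp⟩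

lemma isAlgStack_overCat (U : Over S) :
    AlgSt.IsAlgStack Scheme.fppfPrecoverage (overCat U) :=
  (isDM_of_repByAlgSp (repByAlgSp_overCat U) (isStack_of_repByAlgSp (repByAlgSp_overCat U))).1

/-- Fibre products of algebraic stacks. -/
lemma isAlgStack_fp' {𝒵 : AlgSt.Cat S} (h𝒳 : AlgSt.IsAlgStack Scheme.fppfPrecoverage 𝒳)
    (h𝒴 : AlgSt.IsAlgStack Scheme.fppfPrecoverage 𝒴) (h𝒵 : AlgSt.IsAlgStack Scheme.fppfPrecoverage 𝒵)
    (f : 𝒳 ⥤ᵇ 𝒵) (g : 𝒴 ⥤ᵇ 𝒵) : AlgSt.IsAlgStack Scheme.fppfPrecoverage (fp f g) :=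
  isAlgStack_fp (isPrestack_of_isStack h𝒵.isStack) h𝒵.diag h𝒳 h𝒴 f g

lemma isFibSetoid_fp_of_faithful {𝒰 : AlgSt.Cat S} [IsFibGrpd 𝒳.p] [IsFibGrpd 𝒴.p]
    (h𝒰 : IsFibSetoid 𝒰.p) (y : 𝒰 ⥤ᵇ 𝒴) (f : 𝒳 ⥤ᵇ 𝒴) [f.toFunctor.Faithful] :
    IsFibSetoid (fp y f).p := by
  haveI := h𝒰.1
  haveI : IsFibGrpd (fp y f).p := isFibGrpd_fp
  refine ⟨inferInstance, fun U a b => ⟨fun φ ψ => ?_⟩⟩
  haveI h1 : (fp y f).p.IsHomLift (𝟙 U) φ.1 := φ.2
  haveI h2 : (fp y f).p.IsHomLift (𝟙 U) ψ.1 := ψ.2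
  haveI := isHomLift_fst (𝟙 U) φ.1
  haveI := isHomLift_fst (𝟙 U) ψ.1
  have e1 : φ.1.hom.fst = ψ.1.hom.fst := hom_eq_of_thin h𝒰.2 (𝟙 U) φ.1.hom.fst ψ.1.hom.fst
  refine Fiber.hom_ext (fp_hom_ext e1 (f.toFunctor.map_injective ?_))
  rw [← cancel_epi a.1.obj.iso.hom]
  exact φ.1.hom.w.symm.trans ((congrArg (fun t => y.map t ≫ b.1.obj.iso.hom) e1).trans ψ.1.hom.w)

/-- A faithful morphism of algebraic stacks is representable by algebraic spaces. -/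
theorem repByAlgSp1_of_faithful (h𝒳 : AlgSt.IsAlgStack Scheme.fppfPrecoverage 𝒳)
    (h𝒴 : AlgSt.IsAlgStack Scheme.fppfPrecoverage 𝒴) (f : 𝒳 ⥤ᵇ 𝒴) [f.toFunctor.Faithful] :
    AlgSt.RepByAlgSp1 f := by
  intro U y
  haveI := h𝒳.isStack.1
  haveI := h𝒴.isStack.1
  exact repByAlgSp_of_isFibSetoid (isAlgStack_fp' (isAlgStack_overCat U) h𝒳 h𝒴 y f)
    (isFibSetoid_fp_of_faithful (isFibSetoid_of_repByAlgSp (repByAlgSp_overCat U)) y f)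

theorem repByAlgSp1_iff_faithful (h𝒳 : AlgSt.IsAlgStack Scheme.fppfPrecoverage 𝒳)
    (h𝒴 : AlgSt.IsAlgStack Scheme.fppfPrecoverage 𝒴) (f : 𝒳 ⥤ᵇ 𝒴) :
    AlgSt.RepByAlgSp1 f ↔ f.toFunctor.Faithful := by
  haveI := h𝒳.isStack.1
  haveI := h𝒴.isStack.1
  exact ⟨faithful_of_repByAlgSp1, fun _ => repByAlgSp1_of_faithful h𝒳 h𝒴 f⟩

section Faithful

variable {C : Type*} [Category C] {𝒜 ℬ : BasedCategory C} (f : 𝒜 ⥤ᵇ ℬ)

lemma map_p_eq {a b : 𝒜.obj} {φ ψ : a ⟶ b} (h : f.map φ = f.map ψ) :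
    𝒜.p.map φ = 𝒜.p.map ψ := by
  have e1 := Functor.congr_hom f.w φ
  have e2 := Functor.congr_hom f.w ψ
  simp only [Functor.comp_map, h] at e1 e2
  rw [e2] at e1
  simpa [cancel_epi, cancel_mono] using e1.symm

lemma faithful_of_trivial_kernel [IsFibGrpd 𝒜.p] [IsFibGrpd ℬ.p]
    (h : ∀ (a : 𝒜.obj) (φ : a ⟶ a), 𝒜.p.map φ = 𝟙 (𝒜.p.obj a) → f.map φ = 𝟙 (f.obj a) → φ = 𝟙 a) :
    f.toFunctor.Faithful := by
  refine ⟨fun {a b φ ψ} e => ?_⟩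
  have ep := map_p_eq f e
  haveI := IsFibGrpd.isStronglyCartesian (p := 𝒜.p) ψ
  haveI : 𝒜.p.IsHomLift (𝒜.p.map ψ) φ := ep ▸ IsHomLift.map _ _
  let χ := CategoryTheory.Functor.IsCartesian.map 𝒜.p (𝒜.p.map ψ) ψ φ
  have hχ : χ ≫ ψ = φ := CategoryTheory.Functor.IsCartesian.fac 𝒜.p (𝒜.p.map ψ) ψ φ
  haveI hl : 𝒜.p.IsHomLift (𝟙 (𝒜.p.obj a)) χ :=
    CategoryTheory.Functor.IsCartesian.map_isHomLift 𝒜.p (𝒜.p.map ψ) ψ φ
  haveI := IsFibGrpd.isStronglyCartesian (p := ℬ.p) (f.map ψ)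
  have hfχ : f.map χ = 𝟙 (f.obj a) := by
    haveI : ℬ.p.IsHomLift (𝟙 (ℬ.p.obj (f.obj a))) (f.map χ) := by
      rw [f.w_obj]; infer_instance
    refine CategoryTheory.Functor.IsCartesian.ext ℬ.p (ℬ.p.map (f.map ψ)) (f.map ψ) (f.map χ) (𝟙 _) ?_
    rw [← f.toFunctor.map_comp, hχ, Category.id_comp]
    exact e
  have h1 : 𝒜.p.map χ = 𝟙 (𝒜.p.obj a) := by
    simpa using IsHomLift.fac' 𝒜.p (𝟙 (𝒜.p.obj a)) χ
  rw [← hχ, h a χ h1 hfχ, Category.id_comp]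

lemma trivial_kernel_of_faithful [f.toFunctor.Faithful] (a : 𝒜.obj) (φ : a ⟶ a)
    (h : f.map φ = 𝟙 (f.obj a)) : φ = 𝟙 a :=
  f.toFunctor.map_injective (by rw [f.toFunctor.map_id]; exact h)

lemma faithful_iff_isEquivOver_inertiaToBase [IsFibGrpd 𝒜.p] [IsFibGrpd ℬ.p] :
    f.toFunctor.Faithful ↔ IsEquivOver (inertiaToBase f) := by
  constructor
  · intro hf
    have key : ∀ x : InertiaObj f, x.aut.hom = 𝟙 x.pt := fun x =>
      trivial_kernel_of_faithful f x.pt x.aut.hom x.map_aut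
    haveI : (inertiaToBase f).toFunctor.Faithful := ⟨fun {x y φ ψ} e => InertiaObj.hom_ext e⟩
    haveI : (inertiaToBase f).toFunctor.Full := ⟨fun {x y} φ =>
      ⟨⟨φ, by rw [key, key, Category.id_comp, Category.comp_id]⟩, rfl⟩⟩
    exact isEquivOver_of_vertEssSurj _ fun a =>
      ⟨⟨a, Iso.refl a, f.map_id a⟩, Iso.refl a, IsHomLift.id rfl⟩
  · intro hI
    obtain ⟨⟨hfull, -⟩, -⟩ := (isEquivOver_iff _).mp hI
    refine faithful_of_trivial_kernel f fun a φ hp hφ => ?_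
    haveI : 𝒜.p.IsHomLift (𝟙 (𝒜.p.obj a)) φ := hp ▸ IsHomLift.map (p := 𝒜.p) φ
    haveI : IsIso φ := isIso_of_isHomLift (p := 𝒜.p) (𝟙 (𝒜.p.obj a)) φ
    let x₀ : InertiaObj f := ⟨a, Iso.refl a, f.map_id a⟩
    let x₁ : InertiaObj f := ⟨a, asIso φ, hφ⟩
    obtain ⟨θ, hθ⟩ := hfull.map_surjective (X := x₁) (Y := x₀) (𝟙 a)
    have hθ' : θ.hom = 𝟙 a := hθ
    simpa [hθ', x₀, x₁] using θ.comm

lemma faithful_of_full_diag [IsFibGrpd 𝒜.p] [IsFibGrpd ℬ.p] (h : (diag f).toFunctor.Full) :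
    f.toFunctor.Faithful := by
  refine ⟨fun {a b φ ψ} e => ?_⟩
  obtain ⟨θ, hθ⟩ := h.map_surjective (X := a) (Y := b)
    (fpHom (x := (diag f).obj a) (y := (diag f).obj b) φ ψ (by
      show f.map φ ≫ 𝟙 _ = 𝟙 _ ≫ f.map ψ
      rw [Category.comp_id, Category.id_comp, e]))
  exact (congrArg (fun t => t.hom.fst) hθ).symm.trans (congrArg (fun t => t.hom.snd) hθ)

lemma faithful_iff_isEquivOver_diag_diag [IsFibGrpd 𝒜.p] [IsFibGrpd ℬ.p] :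
    f.toFunctor.Faithful ↔ IsEquivOver (diag (diag f)) := by
  constructor
  · intro hf
    haveI : (diag (diag f)).toFunctor.Faithful := ⟨fun {x y φ ψ} e => congrArg (fun t => t.hom.fst) e⟩
    haveI : (diag (diag f)).toFunctor.Full := ⟨fun {x y} φ => by
      refine ⟨φ.hom.fst, fp_hom_ext rfl ?_⟩
      have w : (diag f).map φ.hom.fst ≫ 𝟙 _ = 𝟙 _ ≫ (diag f).map φ.hom.snd := φ.hom.w
      rw [Category.comp_id, Category.id_comp] at w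
      exact congrArg (fun t => t.hom.fst) w⟩
    refine isEquivOver_of_vertEssSurj _ fun η => ?_
    let θ := η.obj.iso
    have h12 : θ.hom.hom.fst = θ.hom.hom.snd := f.toFunctor.map_injective (by
      have w : f.map θ.hom.hom.fst ≫ 𝟙 _ = 𝟙 _ ≫ f.map θ.hom.hom.snd := θ.hom.hom.w
      rw [Category.comp_id, Category.id_comp] at w
      exact w)
    refine ⟨η.obj.fst, fpIsoMk (F := diag f) (G := diag f) (x := (diag (diag f)).obj η.obj.fst) (y := η)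
      (Iso.refl _) (fstIso θ) ?_, ?_⟩
    · show (diag f).map (𝟙 η.obj.fst) ≫ θ.hom = 𝟙 _ ≫ (diag f).map θ.hom.hom.fst
      rw [(diag f).toFunctor.map_id, Category.id_comp, Category.id_comp]
      exact fp_hom_ext rfl h12.symm
    · refine @isHomLift_of_fst _ _ _ _ _ (diag f) (diag f) _ _ _ _ _ _ ?_
      exact IsHomLift.id rfl
  · intro hI
    obtain ⟨⟨-, -⟩, hess⟩ := (isEquivOver_iff _).mp hI
    refine faithful_of_trivial_kernel f fun a φ hp hφ => ?_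
    haveI : 𝒜.p.IsHomLift (𝟙 (𝒜.p.obj a)) φ := hp ▸ IsHomLift.map (p := 𝒜.p) φ
    haveI : IsIso φ := isIso_of_isHomLift (p := 𝒜.p) (𝟙 (𝒜.p.obj a)) φ
    let θ : (diag f).obj a ≅ (diag f).obj a := fpIsoMk (asIso φ) (Iso.refl a) (by
      show f.map φ ≫ 𝟙 _ = 𝟙 _ ≫ f.map (𝟙 a)
      rw [Category.comp_id, Category.id_comp, f.toFunctor.map_id]
      exact hφ)
    have hθ : (fp f f).p.IsHomLift (𝟙 (𝒜.p.obj a)) θ.hom := by
      haveI : 𝒜.p.IsHomLift (𝟙 (𝒜.p.obj a)) θ.hom.hom.fst := ‹𝒜.p.IsHomLift (𝟙 (𝒜.p.obj a)) φ›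
      exact isHomLift_of_fst _ θ.hom
    obtain ⟨ξ, i, -⟩ := hess (fpObj (F := diag f) (G := diag f) a a θ hθ)
    have w : (diag f).map i.hom.hom.fst ≫ θ.hom = 𝟙 _ ≫ (diag f).map i.hom.hom.snd := i.hom.hom.w
    rw [Category.id_comp] at w
    have w1 : i.hom.hom.fst ≫ φ = i.hom.hom.snd := congrArg (fun t => t.hom.fst) w
    have w2 : i.hom.hom.fst ≫ 𝟙 a = i.hom.hom.snd := congrArg (fun t => t.hom.snd) w
    haveI : IsIso i.hom.hom.fst := (fstIso i).isIso_hom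
    exact (cancel_epi i.hom.hom.fst).mp (w1.trans w2.symm)

end Faithful

theorem repByAlgSp1_iff_kernel (h𝒳 : AlgSt.IsAlgStack Scheme.fppfPrecoverage 𝒳)
    (h𝒴 : AlgSt.IsAlgStack Scheme.fppfPrecoverage 𝒴) (f : 𝒳 ⥤ᵇ 𝒴) :
    AlgSt.RepByAlgSp1 f ↔ ∀ (a : 𝒳.obj) (φ : a ⟶ a),
      𝒳.p.map φ = 𝟙 (𝒳.p.obj a) → f.map φ = 𝟙 (f.obj a) → φ = 𝟙 a := by
  haveI := h𝒳.isStack.1
  haveI := h𝒴.isStack.1
  rw [repByAlgSp1_iff_faithful h𝒳 h𝒴 f]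
  exact ⟨fun _ a φ _ h => trivial_kernel_of_faithful f a φ h, faithful_of_trivial_kernel f⟩

end AlgStSetoidLib
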