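import Groth.Agent.AlgStSetoidLib.Basic
import Groth.Agent.AlgStBig.Cover

/-!
# Representability descends along flat covers
-/

set_option linter.all false
set_option autoImplicit false
set_option backward.isDefEq.respectTransparency false
set_option backward.isDefEq.respectTransparency.types false

universe u

open CategoryTheory CategoryTheory.Limits AlgebraicGeometry Opposite AlgSp FibCat FibLib AlgSpLib
open CategoryTheory.Functor (Fiber)

namespace AlgStSetoidLib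
open AlgStLib AlgStBig

variable {S : Scheme.{u}} {𝒳 𝒴 : AlgSt.Cat S}

lemma isFibSetoid_of_equiv_src {𝒜 ℬ : AlgSt.Cat S} {e : 𝒜 ⥤ᵇ ℬ} (he : IsEquivOver e)
    (h : IsFibSetoid 𝒜.p) : IsFibSetoid ℬ.p := by
  obtain ⟨e', he', -⟩ := AlgStLib.exists_inverse he
  exact isFibSetoid_of_isEquivOver h he'

/-- The setoid property of a base change descends along a flat cover. -/
theorem isFibSetoid_fp_of_cover (h𝒳 : AlgSt.IsAlgStack Scheme.fppfPrecoverage 𝒳)
    (h𝒴 : AlgSt.IsAlgStack Scheme.fppfPrecoverage 𝒴) {𝒲 : AlgSt.Cat S} [IsFibGrpd 𝒲.p] (f : 𝒳 ⥤ᵇ 𝒴)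
    (w : 𝒲 ⥤ᵇ 𝒴) (hw₁ : AlgSt.RepByAlgSpWith (LocP @Flat) w)
    (hw₂ : AlgSt.RepByAlgSpWith (LocP @LocallyOfFinitePresentation) w)
    (hw₃ : AlgSt.RepByAlgSpWith IsSurjectiveMor w) (hset : IsFibSetoid (fp w f).p) (U : Over S)
    (y : overCat U ⥤ᵇ 𝒴) : IsFibSetoid (fp y f).p := by
  haveI := h𝒳.isStack.1
  haveI := h𝒴.isStack.1
  haveI := full_id 𝒳
  haveI := faithful_id 𝒳
  haveI := full_id 𝒴
  haveI := faithful_id 𝒴
  let y' : AlgSt.ofSch U ⥤ᵇ 𝒴 := BasedFunctor.comp (AlgSt.toOverCat U) y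
  haveI : IsFibGrpd (AlgSt.ofSch U).p := isFibSetoid_ofPsh.1
  let M : fp y' f ⥤ᵇ fp y f := fpMap (a := AlgSt.toOverCat U) (b := BasedFunctor.id 𝒳)
    (c := BasedFunctor.id 𝒴) (F := y) (G := f) (F' := y') (G' := f) (Iso.refl _) (Iso.refl _)
  refine isFibSetoid_of_equiv_src (e := M) (isEquivOver_fpMap _ _ (isEquivOver_toOverCat U) (isEquivOver_id _)) ?_
  have hU := IsAlgSpace.yon_obj (S := S) U
  obtain ⟨H, c, hH, hc, hc₁⟩ := (repByAlgSpWith_iff _ w).mp hw₁ U y'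
  have hc₂ := prop_of_along good_lfp.bc.precomp_iso hw₂ hc
  have hc₃ := prop_of_along good_surjective.bc.precomp_iso hw₃ hc
  haveI : Presheaf.IsLocallySurjective (AlgSp.J S) c.hom :=
    isLocallySurjective_of_fppf hH hU c hc₁ hc₂ hc₃
  obtain ⟨e, he, ⟨β⟩⟩ := hc
  let v : AlgSt.ofSp H ⥤ᵇ 𝒲 := BasedFunctor.comp e (FibCat.fpSnd y' w)
  have hv : BasedFunctor.comp v w ≅ BasedFunctor.comp (Stk.ofPshMap c.hom) y' :=
    (whiskerLeftIso' e (fpIso y' w)).symm ≪≫ whiskerRightIso' β y'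
  haveI : IsFibGrpd (AlgSt.ofSp H).p := isFibSetoid_ofPsh.1
  haveI : IsFibGrpd (fp w f).p := isFibGrpd_fp
  have h1 : IsFibSetoid (fp (BasedFunctor.comp v w) f).p :=
    isFibSetoid_of_equiv_src (isEquivOver_fpPaste v w f) (isFibSetoid_fp' isFibSetoid_ofPsh hset)
  let N : fp (BasedFunctor.comp (Stk.ofPshMap c.hom) y') f ⥤ᵇ fp (BasedFunctor.comp v w) f :=
    fpMap (a := BasedFunctor.id _) (b := BasedFunctor.id 𝒳) (c := BasedFunctor.id 𝒴) hv (Iso.refl _)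
  have h2 : IsFibSetoid (fp (BasedFunctor.comp (Stk.ofPshMap c.hom) y') f).p :=
    isFibSetoid_of_isEquivOver h1 (G := N) (isEquivOver_fpMap _ _ (isEquivOver_id _) (isEquivOver_id _))
  have h3 := isFibSetoid_of_isEquivOver h2 (isEquivOver_fpPaste (Stk.ofPshMap c.hom) y' f)
  refine isFibSetoid_of_cover (J := AlgSp.J S) (c := c.hom) (p := FibCat.fpFst y' f) ?_ h3
  exact isPrestack_of_isStack
    (AlgStLib.isStack_fp (isStack_ofSp _) h𝒳.isStack (isPrestack_of_isStack h𝒴.isStack))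

end AlgStSetoidLib
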