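import Groth.Agent.AlgStSetoidLib.Basic
import Groth.Agent.AlgStBig.PointsTop
import Groth.Agent.AlgStBig.Rows3
import Mathlib.AlgebraicGeometry.AlgClosed.Basic

/-!
# Surjective diagonals and points over algebraically closed fields
-/

set_option linter.all false
set_option autoImplicit false
set_option backward.isDefEq.respectTransparency false
set_option backward.isDefEq.respectTransparency.types false

universe u

open CategoryTheory CategoryTheory.Limits AlgebraicGeometry Opposite AlgSp FibCat FibLib AlgSpLib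
open CategoryTheory.Functor (Fiber)

namespace AlgStSetoidLib
open AlgStLib AlgStBig

variable {S : Scheme.{u}} {𝒳 𝒴 : AlgSt.Cat S}

lemma isHomLift_id_congr {C X : Type*} [Category C] [Category X] {p : X ⥤ C} {R R' : C} (h : R = R')
    {a b : X} {φ : a ⟶ b} (hφ : p.IsHomLift (𝟙 R) φ) : p.IsHomLift (𝟙 R') φ := by
  subst h; exact hφ

/-- An algebraic space, locally of finite type and surjective over an algebraically closed field, has a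
rational point. -/
lemma exists_section_of_lft {k : Type u} [Field k] [IsAlgClosed k] (s : Spec (CommRingCat.of k) ⟶ S)
    {H : Sp S} (hH : IsAlgSpace H) (a : H ⟶ (yon S).obj (Over.mk s))
    (ha : LocP @LocallyOfFiniteType a) (has : IsSurjectiveMor a) :
    ∃ x : H.obj.obj (op (Over.mk s)), a.hom.app _ x = ⟨𝟙 _⟩ := by
  obtain ⟨U, p, hp, hps⟩ := hH.atlas
  obtain ⟨j, hj⟩ := (yon S).map_surjective (p ≫ a)
  have hU := IsAlgSpace.yon_obj (S := S) U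
  have hp' : LocP @LocallyOfFiniteType p :=
    locP_mono (fun _ _ g (hg : Etale g) => inferInstanceAs (LocallyOfFiniteType g))
      (locP_etale_of_isEtaleMor (isEtaleMor_of_repWith hp))
  haveI : LocallyOfFiniteType j.left :=
    (locP_yon_map_iff (P := @LocallyOfFiniteType) j).mp
      (hj ▸ good_lft.comp hU hH (IsAlgSpace.yon_obj _) p a hp' ha)
  haveI : Nonempty U.left := by
    obtain ⟨z, -⟩ := has (Points.schemeHomeo (Over.mk s) (IsLocalRing.closedPoint k))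
    obtain ⟨w, -⟩ := map_surjective_of_repWith hps z
    obtain ⟨t, -⟩ := (Points.schemeHomeo U).surjective w
    exact ⟨t⟩
  haveI : JacobsonSpace ↥(Over.mk s).left := inferInstanceAs (JacobsonSpace ↥(Spec (CommRingCat.of k)))
  haveI : JacobsonSpace ↥U.left := LocallyOfFiniteType.jacobsonSpace j.left
  obtain ⟨x, -, hx⟩ := nonempty_inter_closedPoints (Z := (Set.univ : Set U.left)) Set.univ_nonempty
    isOpen_univ.isLocallyClosed
  let σ₀ : Spec (CommRingCat.of k) ⟶ U.left := pointOfClosedPoint j.left x hx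
  have hσ₀ : σ₀ ≫ j.left = 𝟙 _ := pointOfClosedPoint_comp _ _ _
  let σ : Over.mk s ⟶ U := Over.homMk σ₀ (by
    rw [← Over.w j, reassoc_of% hσ₀])
  refine ⟨p.hom.app _ ⟨σ⟩, ?_⟩
  have hσ : σ ≫ j = 𝟙 _ := Over.OverMorphism.ext hσ₀
  have := congrArg (fun t : (yon S).obj U ⟶ (yon S).obj (Over.mk s) => t.hom.app (op (Over.mk s)) ⟨σ⟩) hj
  refine this.symm.trans ?_
  show (⟨σ ≫ j⟩ : ULift _) = ⟨𝟙 _⟩
  rw [hσ]

theorem exists_lift_of_isSurjective_diag (h𝒳 : AlgSt.IsAlgStack Scheme.fppfPrecoverage 𝒳)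
    (h𝒴 : AlgSt.IsAlgStack Scheme.fppfPrecoverage 𝒴) (f : 𝒳 ⥤ᵇ 𝒴) (hΔ : AlgSt.IsSurjective (diag f))
    {k : Type u} [Field k] [IsAlgClosed k] (s : Spec (CommRingCat.of k) ⟶ S) (a₁ a₂ : 𝒳.obj)
    (h₁ : 𝒳.p.obj a₁ = Over.mk s) (h₂ : 𝒳.p.obj a₂ = Over.mk s) (β : f.obj a₁ ⟶ f.obj a₂)
    (hβ : 𝒴.p.IsHomLift (𝟙 (Over.mk s)) β) :
    ∃ α : a₁ ⟶ a₂, 𝒳.p.IsHomLift (𝟙 (Over.mk s)) α ∧ f.map α = β := by
  haveI := h𝒳.isStack.1
  haveI := h𝒴.isStack.1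
  haveI := hβ
  haveI : IsFibGrpd (fp f f).p := isFibGrpd_fp
  haveI : IsIso β := isIso_of_isHomLift (p := 𝒴.p) (𝟙 (Over.mk s)) β
  let T : Over S := Over.mk s
  let o₀ : (fp f f).obj := fpObj a₁ a₂ (asIso β) (by rw [h₁]; exact hβ)
  let fb : (fp f f).p.Fiber T := Functor.Fiber.mk (p := (fp f f).p) (a := o₀) h₁
  let u : AlgSt.ofSch T ⥤ᵇ fp f f := BasedFunctor.comp (AlgSt.toOverCat T) (ofPoint fb)
  obtain ⟨κ⟩ := nonempty_evalAtId_ofPoint_iso fb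
  let o : (AlgSt.ofSch T).obj := ⟨T, ⟨𝟙 T⟩⟩
  let κ' : u.obj o ≅ o₀ :=
    ⟨κ.hom.1, κ.inv.1, congrArg Subtype.val κ.hom_inv_id, congrArg Subtype.val κ.inv_hom_id⟩
  have hΔ1 := AlgStBig.repByAlgSp1_diag h𝒳 h𝒴 f
  have hlft := AlgStBig.repByAlgSpWith_lft_diag h𝒳 h𝒴 f
  have hsurj := (AlgStBig.surjective_iff_repByAlgSpWith hΔ1).mp hΔ
  obtain ⟨H, a, hH, ha, hal⟩ := (AlgStBig.repByAlgSpWith_iff _ _).mp hlft T u
  have has := AlgStBig.prop_of_along good_surjective.bc.precomp_iso hsurj ha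
  obtain ⟨x, hx⟩ := exists_section_of_lft s hH a hal has
  obtain ⟨e, he, ⟨γ⟩⟩ := ha
  let z := e.obj ⟨T, x⟩
  have ho : (Stk.ofPshMap a.hom).obj ⟨T, x⟩ = o := by
    show (⟨T, a.hom.app (op T) x⟩ : Stk.EltObj _) = ⟨T, ⟨𝟙 T⟩⟩
    rw [hx]
  let γ₀ : z.obj.fst ≅ o := appIso γ ⟨T, x⟩ ≪≫ eqToIso ho
  haveI hγ₀ : (AlgSt.ofSch T).p.IsHomLift (𝟙 T) γ₀.hom := by
    haveI : (AlgSt.ofSch T).p.IsHomLift (𝟙 T) (appIso γ ⟨T, x⟩).hom := γ.hom.isHomLift' (⟨T, x⟩ : Stk.EltObj H.obj)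
    haveI : (AlgSt.ofSch T).p.IsHomLift (𝟙 T) (eqToHom ho) := IsHomLift.eqToHom_codomain_lift_id ho rfl
    simp only [γ₀, Iso.trans_hom, eqToIso.hom]
    infer_instance
  have hzT : (AlgSt.ofSch T).p.obj z.obj.fst = T := IsHomLift.domain_eq _ (𝟙 T) γ₀.hom
  haveI hzi : (fp f f).p.IsHomLift (𝟙 T) z.obj.iso.hom := by
    exact isHomLift_id_congr hzT z.property
  haveI hκ : (fp f f).p.IsHomLift (𝟙 T) κ'.hom := κ.hom.2
  haveI : (fp f f).p.IsHomLift (𝟙 T) (u.map γ₀.hom) := u.preserves_isHomLift _ _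
  let ε : o₀ ≅ (diag f).obj z.obj.snd :=
    κ'.symm ≪≫ (u.toFunctor.mapIso γ₀).symm ≪≫ z.obj.iso
  haveI hε : (fp f f).p.IsHomLift (𝟙 T) ε.hom := by
    haveI : (fp f f).p.IsHomLift (𝟙 T) κ'.inv := @IsHomLift.lift_id_inv _ _ _ _ (fp f f).p _ _ _ κ' hκ
    haveI : (fp f f).p.IsHomLift (𝟙 T) (u.toFunctor.mapIso γ₀).inv :=
      @IsHomLift.lift_id_inv _ _ _ _ (fp f f).p _ _ _ (u.toFunctor.mapIso γ₀) (u.preserves_isHomLift _ γ₀.hom)
    simp only [ε, Iso.trans_hom, Iso.symm_hom]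
    infer_instance
  haveI := isHomLift_fst (𝟙 T) ε.hom
  haveI := isHomLift_snd (𝟙 T) ε.hom
  haveI : IsIso ε.hom.hom.snd := isIso_of_isHomLift (p := 𝒳.p) (𝟙 T) _
  refine ⟨ε.hom.hom.fst ≫ inv ε.hom.hom.snd, ?_, ?_⟩
  · exact inferInstanceAs (𝒳.p.IsHomLift (𝟙 T) (ε.hom.hom.fst ≫ inv ε.hom.hom.snd))
  · have w : f.map ε.hom.hom.fst ≫ 𝟙 _ = β ≫ f.map ε.hom.hom.snd := ε.hom.hom.w
    rw [f.toFunctor.map_comp, Functor.map_inv, IsIso.comp_inv_eq]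
    rwa [Category.comp_id] at w

theorem isSurjective_diag_of_forall_lift [IsFibGrpd 𝒳.p] [IsFibGrpd 𝒴.p] (f : 𝒳 ⥤ᵇ 𝒴)
    (H : ∀ (k : Type u) [Field k] [IsAlgClosed k] (s : Spec (CommRingCat.of k) ⟶ S) (a₁ a₂ : 𝒳.obj)
      (_ : 𝒳.p.obj a₁ = Over.mk s) (_ : 𝒳.p.obj a₂ = Over.mk s) (β : f.obj a₁ ⟶ f.obj a₂),
      𝒴.p.IsHomLift (𝟙 (Over.mk s)) β →
        ∃ α : a₁ ⟶ a₂, 𝒳.p.IsHomLift (𝟙 (Over.mk s)) α ∧ f.map α = β) :
    AlgSt.IsSurjective (diag f) := by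
  intro w
  haveI : IsFibGrpd (fp f f).p := isFibGrpd_fp
  obtain ⟨p, rfl⟩ := AlgSt.Points.mk_surjective w
  let K' := AlgebraicClosure p.K
  let i := Spec.map (CommRingCat.ofHom (algebraMap p.K K'))
  let g : Over.mk (i ≫ p.str) ⟶ Over.mk p.str := Over.homMk i
  obtain ⟨o, φ, hφ⟩ := FibLib.exists_lift (fp f f).p p.lies g
  have ho : (fp f f).p.obj o = Over.mk (i ≫ p.str) := @IsHomLift.domain_eq _ _ _ _ _ _ _ _ _ g φ hφ
  have h₁ : 𝒳.p.obj o.obj.fst = Over.mk (i ≫ p.str) := ho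
  have h₂ : 𝒳.p.obj o.obj.snd = Over.mk (i ≫ p.str) := ((FibCat.fpSnd f f).w_obj o).trans ho
  have hβ : 𝒴.p.IsHomLift (𝟙 (Over.mk (i ≫ p.str))) o.obj.iso.hom := by
    have := o.property
    rw [← h₁]
    exact this
  obtain ⟨α, -, hαf⟩ := H K' (i ≫ p.str) o.obj.fst o.obj.snd h₁ h₂ o.obj.iso.hom hβ
  refine ⟨AlgSt.Points.mk { K := K', str := i ≫ p.str, obj := o.obj.fst, lies := h₁ }, ?_⟩
  let q : AlgSt.FPt (fp f f) := { K := K', str := i ≫ p.str, obj := o, lies := ho }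
  refine Eq.trans (AlgStBig.mk_eq_of_hom (q := q)
    (fpHom (x := (diag f).obj o.obj.fst) (y := o) (𝟙 o.obj.fst) α ?_)) (AlgStBig.mk_eq_of_hom (p := q) (q := p) φ)
  show f.map (𝟙 o.obj.fst) ≫ o.obj.iso.hom = 𝟙 _ ≫ f.map α
  rw [f.toFunctor.map_id, Category.id_comp, Category.id_comp, hαf]

end AlgStSetoidLib
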