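import Groth.Agent.AlgStSetoidLib.Atlas
import Groth.Agent.EtCritLib.Basic

/-!
# Algebraic stacks for the étale topology
-/

set_option linter.all false
set_option autoImplicit false
set_option backward.isDefEq.respectTransparency false
set_option backward.isDefEq.respectTransparency.types false

universe u

open CategoryTheory CategoryTheory.Limits AlgebraicGeometry Opposite AlgSp FibCat FibLib AlgSpLib
open CategoryTheory.Functor (Fiber)

namespace AlgStSetoidLib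
open AlgStLib AlgStBig

variable {S : Scheme.{u}} {𝒳 𝒰 : AlgSt.Cat S}

lemma isStack_et {𝒵 : AlgSt.Cat S} (h : Stk.IsStack (AlgSp.J S) 𝒵) :
    Stk.IsStack (QuotSh.J Scheme.etalePrecoverage S) 𝒵 :=
  ⟨h.1, fun _ R hR => h.2 R (EtCritLib.etJ_le _ hR)⟩

/-- A stack in setoids with an smooth covering by an algebraic space, for the étale topology, is representable by an algebraic space. -/
theorem repByAlgSp_of_setoid_cover_et (hst : Stk.IsStack (QuotSh.J Scheme.etalePrecoverage S) 𝒳) (hs : IsFibSetoid 𝒳.p)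
    {𝒰 : AlgSt.Cat S} (hU : AlgSt.RepByAlgSp 𝒰) (x : 𝒰 ⥤ᵇ 𝒳)
    (hsm : AlgSt.RepByAlgSpWith (LocP @Smooth) x)
    (hxs : AlgSt.RepByAlgSpWith IsSurjectiveMor x) : AlgSt.RepByAlgSp 𝒳 := by
  obtain ⟨P, e, he⟩ := exists_ofPsh_equiv hs
  have hP : Presieve.IsSheaf (QuotSh.J Scheme.etalePrecoverage S) P :=
    isStack_ofPsh_iff.mp ((AlgStLib.isStack_iff_of_isEquivOver he).mpr hst)
  suffices hF : IsAlgSpaceP P from ⟨⟨⟨P, hF.1⟩, hF.2⟩, e, he⟩
  obtain ⟨G, e₀, he₀⟩ := hU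
  haveI := hst.1
  haveI : IsFibGrpd 𝒰.p := AlgStBig.isFibGrpd_of_repByAlgSp ⟨G, e₀, he₀⟩
  haveI : IsFibGrpd (Stk.ofPsh P).p := isFibSetoid_ofPsh.1
  haveI : IsFibGrpd (AlgSt.ofSp G.obj).p := isFibSetoid_ofPsh.1
  obtain ⟨e', he', -, ⟨β⟩⟩ := AlgStLib.exists_inverse he
  let x' : AlgSt.ofSp G.obj ⥤ᵇ Stk.ofPsh P := BasedFunctor.comp (BasedFunctor.comp e₀ x) e'
  obtain ⟨α⟩ := nonempty_iso_mapOf x'
  let a : G.obj.obj ⟶ P := mapOf x'
  have hsq : BasedFunctor.comp x' e ≅ BasedFunctor.comp e₀ x :=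
    whiskerLeftIso' (BasedFunctor.comp e₀ x) β
  have tr : ∀ {Q : MorphismProperty (Sp S)}, AlgSt.RepByAlgSpWith Q x →
      AlgSt.RepByAlgSpWith Q (Stk.ofPshMap a) := fun {Q} h =>
    repByAlgSpWith_congr α
      ((repByAlgSpWith_square_iff he₀ he hsq Q).mp h)
  have h3 := tr (repByAlgSpWith_inf good_smooth.bc.precomp_iso hxs hsm)
  refine EtCritLib.isAlgSpaceP_of_smooth_cover G.property (p := a) ?_ hP
  intro V ξ F' fst snd sq
  obtain ⟨H, π, hH, hπ, hQ⟩ := (repByAlgSpWith_iff _ _).mp h3 V (Stk.ofPshMap ξ)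
  obtain ⟨i, hi⟩ := Along.unique (along_ofPshMap sq) hπ
  have hs' : Presheaf.IsSheaf (AlgSp.J S) F' := (Presheaf.isSheaf_of_iso_iff i).2 H.property
  let i' : (⟨F', hs'⟩ : Sp S) ≅ H := (fullyFaithfulSheafToPresheaf (AlgSp.J S) _).preimageIso i
  refine ⟨hs', hH.of_iso i'.symm, ?_⟩
  have e0 : (ObjectProperty.homMk snd : (⟨F', hs'⟩ : Sp S) ⟶ (yon S).obj V) = i'.hom ≫ π :=
    ObjectProperty.hom_ext _ hi.symm
  rw [e0]
  exact ⟨good_surjective.bc.precomp_iso i' π hH (IsAlgSpace.yon_obj V) hQ.1,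
    good_smooth.bc.precomp_iso i' π hH (IsAlgSpace.yon_obj V) hQ.2⟩

/-- The diagonal of an étale stack with a smooth covering by an algebraic space is representable by spaces. -/
theorem repByAlgSp_fp_of_cover_et (h𝒳 : Stk.IsStack (QuotSh.J Scheme.etalePrecoverage S) 𝒳)
    (hU : AlgSt.RepByAlgSp 𝒰) (u : 𝒰 ⥤ᵇ 𝒳) (hsm : AlgSt.RepByAlgSpWith (LocP @Smooth) u)
    (hus : AlgSt.RepByAlgSpWith IsSurjectiveMor u) (U V : Over S)
    (a : overCat U ⥤ᵇ 𝒳) (b : overCat V ⥤ᵇ 𝒳) : AlgSt.RepByAlgSp (fp a b) := by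
  haveI := h𝒳.1
  haveI := AlgStBig.isFibGrpd_of_repByAlgSp hU
  haveI := AlgStBig.isFibGrpd_overCat U
  haveI := AlgStBig.isFibGrpd_overCat V
  haveI : IsFibGrpd (fp a b).p := isFibGrpd_fp
  haveI : IsFibGrpd (fp a u).p := isFibGrpd_fp
  haveI : IsFibGrpd (fp u b).p := isFibGrpd_fp
  haveI : IsFibGrpd (fp b u).p := isFibGrpd_fp
  have hu1 : AlgSt.RepByAlgSp1 u := repByAlgSp1_of_with hsm
  have hA : AlgSt.RepByAlgSp (fp a u) := hu1 U a
  have hB : AlgSt.RepByAlgSp (fp u b) :=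
    AlgStBig.RepByAlgSp.of_equivTo (AlgStBig.equivTo_fp_swap u b) (hu1 V b)
  have hb1 : AlgSt.RepByAlgSp1 (FibCat.fpFst u b) := repByAlgSp1_of_repByAlgSp hB hU _
  have hC : AlgSt.RepByAlgSp (fp (FibCat.fpSnd a u) (FibCat.fpFst u b)) :=
    AlgStBig.repByAlgSp_fp (FibCat.fpSnd a u) hb1 hA
  have hW : AlgSt.RepByAlgSp (fp (FibCat.fpFst a b) (FibCat.fpFst a u)) := by
    refine AlgStBig.RepByAlgSp.of_equivTo ?_ hC
    exact (AlgStBig.equivTo_fp_swap _ _).trans (EquivTo.trans (equivTo_fp_paste _ _ _)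
      ((equivTo_fp_congr (fpIso a u).symm (Iso.refl b)).trans (EquivTo.symm (equivTo_fp_paste (FibCat.fpSnd a u) u b))))
  have hst : Stk.IsStack (QuotSh.J Scheme.etalePrecoverage S) (fp a b) :=
    AlgStLib.isStack_fp (isStack_et (isStack_of_repByAlgSp (repByAlgSp_overCat U)))
      (isStack_et (isStack_of_repByAlgSp (repByAlgSp_overCat V))) (isPrestack_of_isStack h𝒳)
  have hset : IsFibSetoid (fp a b).p :=
    isFibSetoid_fp' (isFibSetoid_of_repByAlgSp (repByAlgSp_overCat U))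
      (isFibSetoid_of_repByAlgSp (repByAlgSp_overCat V))
  have tr : ∀ {Q : MorphismProperty (Sp S)}, AlgSt.RepByAlgSpWith Q u →
      AlgSt.RepByAlgSpWith Q (FibCat.fpFst (FibCat.fpFst a b) (FibCat.fpFst a u)) := fun {Q} h =>
    repByAlgSpWith_fpFst Q _ (repByAlgSpWith_fpFst Q a h)
  exact repByAlgSp_of_setoid_cover_et hst hset hW _ (tr hsm) (tr hus)

theorem isAlgStack_et_of_cover (h𝒳 : Stk.IsStack (QuotSh.J Scheme.etalePrecoverage S) 𝒳)
    (hU : AlgSt.RepByAlgSp 𝒰) (u : 𝒰 ⥤ᵇ 𝒳) (hsm : AlgSt.RepByAlgSpWith (LocP @Smooth) u)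
    (hus : AlgSt.RepByAlgSpWith IsSurjectiveMor u) : AlgSt.IsAlgStack Scheme.etalePrecoverage 𝒳 := by
  haveI := h𝒳.1
  exact ⟨h𝒳, repByAlgSp1_diag_iff.mpr fun U x V y => repByAlgSp_fp_of_cover_et h𝒳 hU u hsm hus V U y x,
    hasAtlas_of_space good_smooth (fun _ _ _ h => locP_smooth_of_isEtaleMor h) hU u hsm hus⟩

/-- An algebraic stack for the étale topology in setoids is representable by an algebraic space. -/
theorem repByAlgSp_of_isFibSetoid_et (h𝒳 : AlgSt.IsAlgStack Scheme.etalePrecoverage 𝒳)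
    (hs : IsFibSetoid 𝒳.p) : AlgSt.RepByAlgSp 𝒳 := by
  obtain ⟨U, x, hx, hxs⟩ := h𝒳.atlas
  exact repByAlgSp_of_setoid_cover_et h𝒳.isStack hs (repByAlgSp_overCat U) x hx hxs

end AlgStSetoidLib
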