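import Groth.Agent.AlgStSetoidLib.TrivStab
import Groth.Agent.AlgStSetoidLib.Etale
import Groth.Prelude.Def_StGerb

/-!
# Stabilisers of points over fields
-/

set_option linter.all false
set_option autoImplicit false
set_option backward.isDefEq.respectTransparency false
set_option backward.isDefEq.respectTransparency.types false

universe u

open CategoryTheory CategoryTheory.Limits AlgebraicGeometry Opposite AlgSp FibCat FibLib AlgSpLib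
open CategoryTheory.Functor (Fiber)

namespace AlgStSetoidLib
open AlgStLib AlgStBig

variable {S : Scheme.{u}} {𝒳 : AlgSt.Cat S}

lemma isAlgStack_selfOver (S : Scheme.{u}) :
    AlgSt.IsAlgStack Scheme.fppfPrecoverage (selfOver (Over S) : AlgSt.Cat S) :=
  (isDM_of_repByAlgSp repByAlgSp_selfOver (isStack_of_repByAlgSp repByAlgSp_selfOver)).1

lemma isFibSetoid_of_faithful_toSelf [IsFibGrpd 𝒳.p] (hf : (toSelf 𝒳).toFunctor.Faithful) :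
    IsFibSetoid 𝒳.p := by
  refine ⟨inferInstance, fun U a b => ⟨fun φ ψ => ?_⟩⟩
  refine Fiber.hom_ext (hf.map_injective ?_)
  haveI := φ.2
  haveI := ψ.2
  exact (IsHomLift.fac' 𝒳.p (𝟙 U) φ.1).trans (IsHomLift.fac' 𝒳.p (𝟙 U) ψ.1).symm

lemma eq_id_of_autO_subsingleton [IsFibGrpd 𝒳.p] {U : Over S} (fb : 𝒳.p.Fiber U) (a : 𝒳.obj)
    (m : a ⟶ fb.1) (φ : a ⟶ a) (hφ : 𝒳.p.map φ = 𝟙 (𝒳.p.obj a))
    (h : Subsingleton (Gerb.AutO ((ofPoint fb).obj (Over.mk (𝒳.p.map m ≫ eqToHom fb.2))))) :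
    φ = 𝟙 a := by
  let g : 𝒳.p.obj a ⟶ U := 𝒳.p.map m ≫ eqToHom fb.2
  let z := (ofPoint fb).obj (Over.mk g)
  have hz : 𝒳.p.obj z = 𝒳.p.obj a := (ofPoint fb).w_obj (Over.mk g)
  let t : Over.mk g ⟶ Over.mk (𝟙 U) := Over.homMk g (by simp)
  obtain ⟨k⟩ := nonempty_evalAtId_ofPoint_iso fb
  haveI : 𝒳.p.IsHomLift g ((ofPoint fb).map t) :=
    @BasedFunctor.preserves_isHomLift _ _ _ _ (ofPoint fb) _ _ _ _ g t
      (IsHomLift.map (p := (overCat U).p) t)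
  haveI : 𝒳.p.IsHomLift (𝟙 U) k.hom.1 := k.hom.2
  let n : z ⟶ fb.1 := (ofPoint fb).map t ≫ k.hom.1
  haveI : 𝒳.p.IsHomLift g n := IsHomLift.comp_lift_id_right 𝒳.p g ((ofPoint fb).map t) k.hom.1
  haveI : 𝒳.p.IsHomLift g m := IsHomLift.of_fac 𝒳.p g m rfl fb.2 (by simp [g])
  haveI : 𝒳.p.IsStronglyCartesian g n :=
    (isStronglyCartesian_map_iff 𝒳.p g n).mp (IsFibGrpd.isStronglyCartesian _)
  let χ : a ⟶ z := Functor.IsStronglyCartesian.map 𝒳.p g n (g := 𝟙 (𝒳.p.obj a)) (Category.id_comp g).symm m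
  haveI : 𝒳.p.IsHomLift (𝟙 (𝒳.p.obj a)) χ :=
    Functor.IsStronglyCartesian.map_isHomLift 𝒳.p g n (Category.id_comp g).symm m
  haveI : IsIso χ := isIso_of_isHomLift (p := 𝒳.p) (𝟙 (𝒳.p.obj a)) χ
  haveI : 𝒳.p.IsHomLift (𝟙 (𝒳.p.obj a)) φ := hφ ▸ IsHomLift.map (p := 𝒳.p) φ
  have hl : 𝒳.p.IsHomLift (𝟙 (𝒳.p.obj z)) (inv χ ≫ φ ≫ χ) :=
    isHomLift_id_congr hz.symm (inferInstanceAs (𝒳.p.IsHomLift (𝟙 (𝒳.p.obj a)) (inv χ ≫ φ ≫ χ)))
  haveI := hl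
  haveI : IsGroupoid (𝒳.p.Fiber (𝒳.p.obj z)) := isGroupoid_fiber 𝒳.p _
  let ψ : Gerb.fib z ⟶ Gerb.fib z := ⟨inv χ ≫ φ ≫ χ, hl⟩
  haveI : IsIso ψ := IsGroupoid.all_isIso ψ
  have e : inv χ ≫ φ ≫ χ = 𝟙 z :=
    congrArg (fun α : Gerb.AutO z => α.hom.1) (@Subsingleton.elim _ h (asIso ψ) (Iso.refl _))
  rw [IsIso.inv_comp_eq, Category.comp_id] at e
  exact (cancel_mono χ).mp (e.trans (Category.id_comp χ).symm)

end AlgStSetoidLib
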