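import Groth.Agent.AlgStSetoidLib.Basic
import Groth.Agent.AlgStBig.MonoFull

/-!
# Fully faithful morphisms of algebraic stacks are monomorphisms
-/

set_option linter.all false
set_option autoImplicit false
set_option backward.isDefEq.respectTransparency false
set_option backward.isDefEq.respectTransparency.types false

universe u

open CategoryTheory CategoryTheory.Limits AlgebraicGeometry Opposite AlgSp FibCat FibLib AlgSpLib
open CategoryTheory.Functor (Fiber)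

namespace AlgStSetoidLib
open AlgStLib AlgStBig

variable {S : Scheme.{u}} {𝒳 𝒴 𝒲 : AlgSt.Cat S}

lemma faithful_fpFst (y : 𝒲 ⥤ᵇ 𝒴) (f : 𝒳 ⥤ᵇ 𝒴) [f.toFunctor.Faithful] :
    (FibCat.fpFst y f).toFunctor.Faithful := ⟨fun {a b φ ψ} e => by
  have e1 : φ.hom.fst = ψ.hom.fst := e
  refine fp_hom_ext e1 (f.toFunctor.map_injective ?_)
  rw [← cancel_epi a.obj.iso.hom]
  exact φ.hom.w.symm.trans ((congrArg (fun t => y.map t ≫ b.obj.iso.hom) e1).trans ψ.hom.w)⟩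

lemma full_fpFst (y : 𝒲 ⥤ᵇ 𝒴) (f : 𝒳 ⥤ᵇ 𝒴) [f.toFunctor.Full] :
    (FibCat.fpFst y f).toFunctor.Full := ⟨fun {a b} φ => by
  obtain ⟨θ, hθ⟩ := f.toFunctor.map_surjective (a.obj.iso.inv ≫ y.map φ ≫ b.obj.iso.hom)
  exact ⟨fpHom φ θ (by rw [hθ, Iso.hom_inv_id_assoc]), rfl⟩⟩

/-- Base changes of fully faithful functors are injective on sections. -/
lemma injective_of_along [IsFibGrpd 𝒳.p] [IsFibGrpd 𝒴.p] (f : 𝒳 ⥤ᵇ 𝒴) [f.toFunctor.Full]
    [f.toFunctor.Faithful] {H G : Sp S} {u : AlgSt.ofSp G ⥤ᵇ 𝒴} {a : H.obj ⟶ G.obj} (h : Along u f a)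
    (T : (Over S)ᵒᵖ) : Function.Injective (a.app T) := by
  obtain ⟨T⟩ := T
  obtain ⟨e, he, ⟨β⟩⟩ := h
  obtain ⟨⟨_, _⟩, -⟩ := (isEquivOver_iff e).mp he
  haveI := faithful_fpFst u f
  haveI := full_fpFst u f
  haveI : (Stk.ofPshMap a).toFunctor.Full :=
    @Functor.Full.of_iso _ _ _ _ _ _ (inferInstanceAs (e.toFunctor ⋙ (FibCat.fpFst u f).toFunctor).Full)
      ((BasedNatTrans.forgetful _ _).mapIso β)
  intro x x' hxx
  let φ : (Stk.ofPshMap a).obj ⟨T, x⟩ ⟶ (Stk.ofPshMap a).obj ⟨T, x'⟩ :=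
    ⟨𝟙 T, by
      show G.obj.map (𝟙 T).op (a.app (op T) x') = a.app (op T) x
      simp [hxx]⟩
  obtain ⟨g, hg⟩ := (Stk.ofPshMap a).toFunctor.map_surjective φ
  have h1 : g.hom = 𝟙 T := congrArg (fun t => t.hom) hg
  have h2 := g.map_sec
  rw [h1] at h2
  simpa using h2.symm

theorem isMono_of_full_faithful (h𝒳 : AlgSt.IsAlgStack Scheme.fppfPrecoverage 𝒳)
    (h𝒴 : AlgSt.IsAlgStack Scheme.fppfPrecoverage 𝒴) (f : 𝒳 ⥤ᵇ 𝒴) [f.toFunctor.Full]
    [f.toFunctor.Faithful] : AlgSt.IsMono f := by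
  haveI := h𝒳.isStack.1
  haveI := h𝒴.isStack.1
  refine repByAlgSpWith_of_forall (repByAlgSp1_of_faithful h𝒳 h𝒴 f) fun U u H a hH ha => ?_
  have hi := injective_of_along f ha
  haveI : ∀ T, Mono (a.hom.app T) := fun T => (CategoryTheory.mono_iff_injective _).mpr (hi T)
  haveI : Mono a.hom := NatTrans.mono_of_mono_app a.hom
  exact (sheafToPresheaf (AlgSp.J S) (Type (u + 1))).mono_of_mono_map ‹Mono a.hom›

end AlgStSetoidLib
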