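import Groth.Agent.AlgStSetoidLib.Basic
import Groth.Agent.AlgStBig.Substack
import Groth.Agent.AlgStBig.Cover

/-!
# A stack covered by open substacks in setoids is in setoids
-/

set_option linter.all false
set_option autoImplicit false
set_option backward.isDefEq.respectTransparency false
set_option backward.isDefEq.respectTransparency.types false

universe w u

open CategoryTheory CategoryTheory.Limits AlgebraicGeometry Opposite AlgSp FibCat FibLib AlgSpLib
open CategoryTheory.Functor (Fiber)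

namespace AlgStSetoidLib
open AlgStLib AlgStBig

variable {S : Scheme.{u}} {𝒳 : AlgSt.Cat S}

/-- A family of opens covering a scheme generates a covering sieve. -/
lemma mem_J_of_opens {T : Over S} {J : Type*} (O : J → T.left.Opens) (hO : ∀ t : T.left, ∃ j, t ∈ O j)
    (R : Sieve T) (hR : ∀ j, R.arrows (Over.homMk (O j).ι : Over.mk ((O j).ι ≫ T.hom) ⟶ T)) :
    R ∈ (AlgSp.J S) T := by
  haveI : (@Flat ⊓ @LocallyOfFinitePresentation : MorphismProperty Scheme.{u}).ContainsIdentities :=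
    ⟨fun _ => ⟨inferInstance, inferInstance⟩⟩
  haveI : (@Flat ⊓ @LocallyOfFinitePresentation : MorphismProperty Scheme.{u}).RespectsIso :=
    inferInstance
  haveI : Scheme.fppfPrecoverage.{u}.HasIsos :=
    inferInstanceAs (Scheme.precoverage (@Flat ⊓ @LocallyOfFinitePresentation)).HasIsos
  choose j hj using hO
  refine (GrothendieckTopology.mem_over_iff _ _).mpr ?_
  refine Precoverage.mem_toGrothendieck_iff_of_isStableUnderComposition.mpr
    ⟨Presieve.ofArrows (fun t : T.left => ((O (j t)) : Scheme.{u})) (fun t => (O (j t)).ι), ?_, ?_⟩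
  · exact (Scheme.ofArrows_mem_precoverage_iff _).mpr
      ⟨fun t => ⟨t, ⟨t, hj t⟩, rfl⟩, fun t => ⟨inferInstance, inferInstance⟩⟩
  · rintro _ _ ⟨t⟩
    exact (Sieve.overEquiv_iff _ _).mpr (hR (j t))

/-- A stack covered by open substacks in setoids is in setoids. -/
theorem isFibSetoid_of_openCover (h𝒳 : AlgSt.IsAlgStack Scheme.fppfPrecoverage 𝒳) {ι : Type w}
    (Q : ι → 𝒳.obj → Prop) (hQ : ∀ i, AlgSt.IsOpenSubstack 𝒳 (Q i) Scheme.fppfPrecoverage)
    (hcov : ⋃ i, Set.range (AlgSt.Points.map (AlgSt.subIncl 𝒳 (Q i))) = Set.univ)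
    (hset : ∀ i, IsFibSetoid (AlgSt.fullSub 𝒳 (Q i)).p) : IsFibSetoid 𝒳.p := by
  haveI := h𝒳.isStack.1
  have hst := isPrestack_of_isStack h𝒳.isStack
  have hQeq := fun i => openSubstack_eq h𝒳 (hQ i)
  have hop : ∀ i, IsOpen (Set.range (AlgSt.Points.map (AlgSt.subIncl 𝒳 (Q i)))) := fun i =>
    (bijOn_openSubstack h𝒳).1 (hQ i)
  refine ⟨inferInstance, fun T => ?_⟩
  haveI := evalAtId_isEquivalence (𝒳 := 𝒳) (U := T)
  let E := evalAtId 𝒳 T
  suffices key : ∀ {A B : overCat T ⥤ᵇ 𝒳} (α β : A ⟶ B), α = β by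
    intro x y
    refine ⟨fun φ ψ => ?_⟩
    let eA := E.objObjPreimageIso x
    let eB := E.objObjPreimageIso y
    obtain ⟨α, hα⟩ := E.map_surjective (eA.hom ≫ φ ≫ eB.inv)
    obtain ⟨β, hβ⟩ := E.map_surjective (eA.hom ≫ ψ ≫ eB.inv)
    rw [key α β, hβ, Iso.cancel_iso_hom_left] at hα
    exact ((Iso.cancel_iso_inv_right _ _ _).mp hα).symm
  intro A B α β
  let u : AlgSt.ofSch T ⥤ᵇ 𝒳 := BasedFunctor.comp (AlgSt.toOverCat T) A
  let O : ι → T.left.Opens := fun i =>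
    ⟨(fun t => ptMap u (Points.schemeHomeo T t)) ⁻¹' Set.range (AlgSt.Points.map (AlgSt.subIncl 𝒳 (Q i))),
      (hop i).preimage ((continuous_ptMap h𝒳.atlas (IsAlgSpace.yon_obj T) u).comp
        (Points.schemeHomeo T).continuous)⟩
  have hO : ∀ t : T.left, ∃ i, t ∈ O i := fun t => by
    have h : ptMap u (Points.schemeHomeo T t) ∈ ⋃ i, Set.range (AlgSt.Points.map (AlgSt.subIncl 𝒳 (Q i))) := by
      rw [hcov]; trivial
    obtain ⟨i, hi⟩ := Set.mem_iUnion.mp h
    exact ⟨i, hi⟩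
  let R : Sieve T :=
    { arrows := fun V g => ∃ i, Q i (A.obj (Over.mk g))
      downward_closed := by
        rintro V W g ⟨i, hi⟩ k
        refine ⟨i, ?_⟩
        rw [hQeq i] at hi ⊢
        exact ptsIn_of_hom (A.map (Over.homMk k : Over.mk (k ≫ g) ⟶ Over.mk g)) hi }
  have hR : R ∈ (AlgSp.J S) T := by
    refine mem_J_of_opens O hO R fun i => ⟨i, ?_⟩
    rw [hQeq i]
    let g : Over.mk ((O i).ι ≫ T.hom) ⟶ T := Over.homMk (O i).ι
    refine (ptsIn_obj_iff (F := (yon S).obj T) u ⟨_, ⟨g⟩⟩).mpr fun t => ?_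
    have e : ((AlgSp.J S).uliftYonedaEquiv.symm ⟨g⟩ :
        (yon S).obj (Over.mk ((O i).ι ≫ T.hom)) ⟶ (yon S).obj T) = (yon S).map g :=
      (AlgSp.J S).uliftYonedaEquiv.symm_apply_eq.2 (by apply ULift.ext; exact (Category.id_comp g).symm)
    show ptMap u (Points.ofPt ((AlgSp.J S).uliftYonedaEquiv.symm _) t) ∈ _
    erw [e]
    rw [← Category.comp_id ((yon S).map g), ofPt_yon_comp]
    exact t.2
  haveI := (hst.2 R hR).2
  refine (Stk.resSieve R 𝒳).map_injective (bnt_ext fun g => ?_)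
  let a := (Stk.sieveIncl R).obj g
  obtain ⟨i, hi⟩ := g.property
  haveI hl : ∀ γ : A ⟶ B, 𝒳.p.IsHomLift (𝟙 a.left) (γ.toNatTrans.app a) :=
    fun γ => BasedNatTrans.isHomLift γ rfl
  have hA : Q i (A.obj a) := hi
  haveI : IsIso (α.toNatTrans.app a) := isIso_of_isHomLift (p := 𝒳.p) (𝟙 a.left) _
  have hB : Q i (B.obj a) := by
    rw [hQeq i] at hA ⊢
    exact ptsIn_of_hom (inv (α.toNatTrans.app a)) hA
  let a' : (AlgSt.fullSub 𝒳 (Q i)).obj := ⟨A.obj a, hA⟩
  let b' : (AlgSt.fullSub 𝒳 (Q i)).obj := ⟨B.obj a, hB⟩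
  have hl' : ∀ γ : A ⟶ B, (AlgSt.fullSub 𝒳 (Q i)).p.IsHomLift (𝟙 a.left)
      (ObjectProperty.homMk (γ.toNatTrans.app a) : a' ⟶ b') := fun γ => by
    haveI := hl γ
    exact IsHomLift.of_fac _ _ _ (IsHomLift.domain_eq 𝒳.p (𝟙 a.left) (γ.toNatTrans.app a))
      (IsHomLift.codomain_eq 𝒳.p (𝟙 a.left) (γ.toNatTrans.app a))
      (IsHomLift.fac 𝒳.p (𝟙 a.left) (γ.toNatTrans.app a))
  haveI := (hset i).1
  haveI := hl' α
  haveI := hl' β
  exact congrArg (fun t => t.hom) (hom_eq_of_thin (hset i).2 (𝟙 a.left)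
    (ObjectProperty.homMk (α.toNatTrans.app a) : a' ⟶ b')
    (ObjectProperty.homMk (β.toNatTrans.app a) : a' ⟶ b'))

end AlgStSetoidLib
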