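import Groth.Agent.AlgStSetoidLib.DiagPoints
import Groth.Agent.AlgStSetoidLib.Mono
import Groth.Agent.AlgStBig.Substack
import Groth.Agent.AlgStBig.Rows2
import Groth.Agent.AlgSpLib.FormalEtale
import Groth.Agent.AlgSpLib.FormalCharts
import Groth.Agent.RichLib.FibreCrit

/-!
# Trivial stabilisers at geometric points
-/

set_option linter.all false
set_option autoImplicit false
set_option backward.isDefEq.respectTransparency false
set_option backward.isDefEq.respectTransparency.types false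

universe u

open CategoryTheory CategoryTheory.Limits AlgebraicGeometry Opposite AlgSp FibCat FibLib AlgSpLib
open CategoryTheory.Functor (Fiber)

noncomputable section

namespace AlgStSetoidLib
open AlgStLib AlgStBig

variable {S : Scheme.{u}} {𝒳 𝒴 : AlgSt.Cat S}

/-- `f` has trivial kernel on the automorphisms of `a`. -/
def KerTriv (f : 𝒳 ⥤ᵇ 𝒴) (a : 𝒳.obj) : Prop :=
  ∀ φ : a ⟶ a, 𝒳.p.map φ = 𝟙 (𝒳.p.obj a) → f.map φ = 𝟙 (f.obj a) → φ = 𝟙 a

lemma eq_of_kerTriv [IsFibGrpd 𝒳.p] [IsFibGrpd 𝒴.p] (f : 𝒳 ⥤ᵇ 𝒴) {a b : 𝒳.obj} (h : KerTriv f a)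
    {φ ψ : a ⟶ b} (e : f.map φ = f.map ψ) : φ = ψ := by
  have ep := map_p_eq f e
  haveI := IsFibGrpd.isStronglyCartesian (p := 𝒳.p) ψ
  haveI : 𝒳.p.IsHomLift (𝒳.p.map ψ) φ := ep ▸ IsHomLift.map _ _
  let χ := CategoryTheory.Functor.IsCartesian.map 𝒳.p (𝒳.p.map ψ) ψ φ
  have hχ : χ ≫ ψ = φ := CategoryTheory.Functor.IsCartesian.fac 𝒳.p (𝒳.p.map ψ) ψ φ
  haveI hl : 𝒳.p.IsHomLift (𝟙 (𝒳.p.obj a)) χ :=
    CategoryTheory.Functor.IsCartesian.map_isHomLift 𝒳.p (𝒳.p.map ψ) ψ φ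
  haveI := IsFibGrpd.isStronglyCartesian (p := 𝒴.p) (f.map ψ)
  have hfχ : f.map χ = 𝟙 (f.obj a) := by
    haveI : 𝒴.p.IsHomLift (𝟙 (𝒴.p.obj (f.obj a))) (f.map χ) := by
      rw [f.w_obj]; infer_instance
    refine CategoryTheory.Functor.IsCartesian.ext 𝒴.p (𝒴.p.map (f.map ψ)) (f.map ψ) (f.map χ) (𝟙 _) ?_
    rw [← f.toFunctor.map_comp, hχ, Category.id_comp]
    exact e
  have h1 : 𝒳.p.map χ = 𝟙 (𝒳.p.obj a) := by
    simpa using IsHomLift.fac' 𝒳.p (𝟙 (𝒳.p.obj a)) χ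
  rw [← hχ, h χ h1 hfχ, Category.id_comp]

/-- A base change whose projection is fully faithful is injective on sections. -/
lemma injective_of_full_fst {𝒲 : AlgSt.Cat S} {g : 𝒲 ⥤ᵇ 𝒴} {H G : Sp S} {u : AlgSt.ofSp G ⥤ᵇ 𝒴}
    [(FibCat.fpFst u g).toFunctor.Full] {a : H.obj ⟶ G.obj} (h : Along u g a)
    (T : (Over S)ᵒᵖ) : Function.Injective (a.app T) := by
  obtain ⟨T⟩ := T
  obtain ⟨e, he, ⟨β⟩⟩ := h
  obtain ⟨⟨_, _⟩, -⟩ := (isEquivOver_iff e).mp he
  haveI : (Stk.ofPshMap a).toFunctor.Full :=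
    @Functor.Full.of_iso _ _ _ _ _ _ (inferInstanceAs (e.toFunctor ⋙ (FibCat.fpFst u g).toFunctor).Full)
      ((BasedNatTrans.forgetful _ _).mapIso β)
  intro x x' hxx
  let φ : (Stk.ofPshMap a).obj ⟨T, x⟩ ⟶ (Stk.ofPshMap a).obj ⟨T, x'⟩ :=
    ⟨𝟙 T, by
      show G.obj.map (𝟙 T).op (a.app (op T) x') = a.app (op T) x
      simp [hxx]⟩
  obtain ⟨k, hk⟩ := (Stk.ofPshMap a).toFunctor.map_surjective φ
  have h1 : k.hom = 𝟙 T := congrArg (fun t => t.hom) hk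
  have h2 := k.map_sec
  rw [h1] at h2
  simpa using h2.symm

/-- The diagonal is a monomorphism over a scheme on whose pulled back objects the kernel is trivial. -/
lemma full_fpFst_diag [IsFibGrpd 𝒳.p] [IsFibGrpd 𝒴.p] (f : 𝒳 ⥤ᵇ 𝒴) {T : Over S}
    (u : AlgSt.ofSch T ⥤ᵇ fp f f)
    (h : ∀ a : 𝒳.obj, Nonempty (a ⟶ (u.obj ⟨T, ⟨𝟙 T⟩⟩).obj.fst) → KerTriv f a) :
    (FibCat.fpFst u (diag f)).toFunctor.Full := ⟨fun {x y} φ => by
  let t : x.obj.fst ⟶ (⟨T, ⟨𝟙 T⟩⟩ : (AlgSt.ofSch T).obj) := ⟨x.obj.fst.sec.down, by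
    apply ULift.ext
    exact Category.comp_id x.obj.fst.sec.down⟩
  have hx : KerTriv f x.obj.snd := h _ ⟨(x.obj.iso.inv ≫ u.map t).hom.fst⟩
  let θ := x.obj.iso.inv ≫ u.map φ ≫ y.obj.iso.hom
  have hθ : θ.hom.fst = θ.hom.snd := eq_of_kerTriv f hx (by
    have w : f.map θ.hom.fst ≫ 𝟙 _ = 𝟙 _ ≫ f.map θ.hom.snd := θ.hom.w
    rwa [Category.comp_id, Category.id_comp] at w)
  have hd : (diag f).map θ.hom.fst = θ := fp_hom_ext rfl hθ
  exact ⟨fpHom φ θ.hom.fst (by rw [hd, Iso.hom_inv_id_assoc]), rfl⟩⟩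

/-- Geometrically trivial stabilisers make the diagonal unramified. -/
theorem isDMMor_of_geom_kerTriv {K K' : Precoverage Scheme.{u}} (h𝒳 : AlgSt.IsAlgStack K 𝒳)
    (h𝒴 : AlgSt.IsAlgStack K' 𝒴) (f : 𝒳 ⥤ᵇ 𝒴)
    (hker : ∀ (k : Type u) [Field k] [IsAlgClosed k] (s : Spec (CommRingCat.of k) ⟶ S) (x : 𝒳.obj),
      𝒳.p.obj x = Over.mk s → ∀ (a : 𝒳.obj), (a ⟶ x) → KerTriv f a) : AlgSt.IsDMMor f := by
  haveI := h𝒳.isStack.1
  haveI := h𝒴.isStack.1
  haveI : IsFibGrpd (fp f f).p := isFibGrpd_fp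
  refine repByAlgSpWith_of_forall (AlgStBig.repByAlgSp1_diag h𝒳 h𝒴 f) fun T u H π hH hπ => ?_
  have hπl : LocP @LocallyOfFiniteType π :=
    prop_of_along good_lft.bc.precomp_iso (AlgStBig.repByAlgSpWith_lft_diag h𝒳 h𝒴 f) hπ
  obtain ⟨U, a, ha, has⟩ := hH.atlas
  obtain ⟨j, hj⟩ := (yon S).map_surjective (a ≫ π)
  have hT := IsAlgSpace.yon_obj (S := S) T
  haveI hjl : LocallyOfFiniteType j.left :=
    hπl a (𝟙 _) j ha (repWith_id _ T) (by rw [hj, Category.comp_id])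
  refine locP_of_chart (P := @LocallyOfFiniteType ⊓ @FormallyUnramified) ha has (repWith_id _ T)
    (h₀ := j) (by rw [hj, Category.comp_id]) ⟨hjl, ?_⟩
  refine RichLib.FibreCrit.formallyUnramified_of_fibers j.left fun t => ?_
  let κ := T.left.residueField t
  let K₀ := AlgebraicClosure κ
  let ι₀ : Spec (CommRingCat.of K₀) ⟶ Spec κ := Spec.map (CommRingCat.ofHom (algebraMap κ K₀))
  let g : Spec (CommRingCat.of K₀) ⟶ T.left := ι₀ ≫ T.left.fromSpecResidueField t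
  let T' : Over S := Over.mk (g ≫ T.hom)
  let g' : T' ⟶ T := Over.homMk g
  let H' : Sp S := pullback π ((yon S).map g')
  have hT' := IsAlgSpace.yon_obj (S := S) T'
  have hH' : IsAlgSpace H' := isAlgSpace_pullback hH hT' hT π _
  let π' : H' ⟶ (yon S).obj T' := pullback.snd π ((yon S).map g')
  have sqH := IsPullback.of_hasPullback π ((yon S).map g')
  have hπ'l : LocP @LocallyOfFiniteType π' := good_lft.bc hH hT hH' hT' _ _ _ _ sqH hπl
  have hAl := hπ.of_isPullback (isPullback_sheaf sqH)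
  let u' : AlgSt.ofSch T' ⥤ᵇ fp f f := BasedFunctor.comp (Stk.ofPshMap ((yon S).map g').hom) u
  let o₀ := u'.obj ⟨T', ⟨𝟙 T'⟩⟩
  have ho₀ : 𝒳.p.obj o₀.obj.fst = Over.mk (g ≫ T.hom) := u'.w_obj ⟨T', ⟨𝟙 T'⟩⟩
  haveI := full_fpFst_diag f u' fun b ⟨m⟩ => hker K₀ (g ≫ T.hom) o₀.obj.fst ho₀ b m
  have hinj := injective_of_full_fst (u := u') (g := diag f) hAl
  haveI : Mono π' := by
    haveI : ∀ W, Mono (π'.hom.app W) := fun W => (CategoryTheory.mono_iff_injective _).mpr (hinj W)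
    haveI : Mono π'.hom := NatTrans.mono_of_mono_app π'.hom
    exact (sheafToPresheaf (AlgSp.J S) (Type (u + 1))).mono_of_mono_map ‹Mono π'.hom›
  have hu := unramified_of_lft_of_diagonal hπ'l (repWith_of_isIso (pullback.diagonal π'))
  have sqU := IsPullback.of_hasPullback j.left g
  let U' : Over S := Over.mk (pullback.snd j.left g ≫ T'.hom)
  let p₁ : U' ⟶ U := Over.homMk (pullback.fst j.left g) (by
    show pullback.fst j.left g ≫ U.hom = pullback.snd j.left g ≫ g ≫ T.hom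
    rw [← Over.w j, pullback.condition_assoc])
  let j' : U' ⟶ T' := Over.homMk (pullback.snd j.left g)
  have sqO : IsPullback p₁ j' j g' := IsPullback.of_map (Over.forget S)
    (Over.OverMorphism.ext pullback.condition) sqU
  have sqY : IsPullback ((yon S).map p₁) ((yon S).map j') ((yon S).map j) ((yon S).map g') := sqO.map (yon S)
  let a' : (yon S).obj U' ⟶ H' := pullback.lift ((yon S).map p₁ ≫ a) ((yon S).map j') (by
    rw [Category.assoc, ← hj, sqY.w])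
  have hsq' : IsPullback ((yon S).map p₁) a' a (pullback.fst π ((yon S).map g')) := by
    refine IsPullback.of_bot ?_ (pullback.lift_fst _ _ _).symm sqH
    simpa [a', π', pullback.lift_snd, hj] using sqY
  have ha' : RepWith @Etale a' := repWith_of_isPullback hsq' ha
  haveI : FormallyUnramified (pullback.snd j.left g) :=
    (hu a' (𝟙 _) j' ha' (repWith_id _ T') (by rw [Category.comp_id]; exact pullback.lift_snd _ _ _)).2
  let k' : pullback j.left g ⟶ j.left.fiber t :=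
    pullback.lift (pullback.fst j.left g) (pullback.snd j.left g ≫ ι₀) (by
      rw [Category.assoc]; exact pullback.condition)
  have sqK : IsPullback k' (pullback.snd j.left g) (j.left.fiberToSpecResidueField t) ι₀ := by
    refine IsPullback.of_right (h₁₂ := pullback.fst j.left (T.left.fromSpecResidueField t)) ?_
      (pullback.lift_snd _ _ _) (IsPullback.of_hasPullback j.left (T.left.fromSpecResidueField t))
    simpa [k', g, pullback.lift_fst] using sqU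
  haveI : Surjective ι₀ := ⟨fun q => ⟨IsLocalRing.closedPoint K₀, Subsingleton.elim _ _⟩⟩
  haveI : Flat ι₀ := (HasRingHomProperty.Spec_iff (P := @Flat)).mpr
    (RingHom.flat_algebraMap_iff.mpr inferInstance)
  exact MorphismProperty.of_isPullback_of_descendsAlong (P := @FormallyUnramified)
    (Q := @Surjective ⊓ @Flat ⊓ @QuasiCompact) sqK.flip ⟨⟨inferInstance, inferInstance⟩, inferInstance⟩
    inferInstance

/-- A DM morphism with trivial kernel at geometric points is faithful. -/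
theorem faithful_of_isDMMor_of_geom_kerTriv {K K' : Precoverage Scheme.{u}} (h𝒳 : AlgSt.IsAlgStack K 𝒳)
    (h𝒴 : AlgSt.IsAlgStack K' 𝒴) (f : 𝒳 ⥤ᵇ 𝒴) (hDM : AlgSt.IsDMMor f)
    (hker : ∀ (k : Type u) [Field k] [IsAlgClosed k] (s : Spec (CommRingCat.of k) ⟶ S) (x : 𝒳.obj),
      𝒳.p.obj x = Over.mk s → KerTriv f x) : f.toFunctor.Faithful := by
  haveI := h𝒳.isStack.1
  haveI := h𝒴.isStack.1
  haveI : IsFibGrpd (fp f f).p := isFibGrpd_fp
  haveI : IsFibGrpd (fp (diag f) (diag f)).p := isFibGrpd_fp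
  have hopen : AlgSt.RepByAlgSpWith (RepWith @IsOpenImmersion) (diag (diag f)) :=
    repByAlgSpWith_diag_of_rep (good_repWith @IsOpenImmersion).bc hDM fun V U a hV ha =>
      openImmersion_diagonal_of_unramified hV (IsAlgSpace.yon_obj U) ha
  have hsurj : AlgSt.IsSurjective (diag (diag f)) :=
    isSurjective_diag_of_forall_lift (diag f) fun k _ _ s a₁ a₂ h₁ h₂ β hβ => by
      have e : β.hom.fst = β.hom.snd := eq_of_kerTriv f (hker k s a₁ h₁) (by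
        have w : f.map β.hom.fst ≫ 𝟙 _ = 𝟙 _ ≫ f.map β.hom.snd := β.hom.w
        rwa [Category.comp_id, Category.id_comp] at w)
      haveI := hβ
      exact ⟨β.hom.fst, isHomLift_fst (F := f) (G := f) (𝟙 (Over.mk s)) β, fp_hom_ext rfl e⟩
  refine faithful_of_trivial_kernel f fun a φ hp hφ => ?_
  haveI : 𝒳.p.IsHomLift (𝟙 (𝒳.p.obj a)) φ := hp ▸ IsHomLift.map (p := 𝒳.p) φ
  haveI : IsIso φ := isIso_of_isHomLift (p := 𝒳.p) (𝟙 (𝒳.p.obj a)) φ
  let θ : (diag f).obj a ≅ (diag f).obj a := fpIsoMk (asIso φ) (Iso.refl a) (by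
    show f.map φ ≫ 𝟙 _ = 𝟙 _ ≫ f.map (𝟙 a)
    rw [Category.comp_id, Category.id_comp, f.toFunctor.map_id]
    exact hφ)
  have hθ : (fp f f).p.IsHomLift (𝟙 (𝒳.p.obj a)) θ.hom := by
    haveI : 𝒳.p.IsHomLift (𝟙 (𝒳.p.obj a)) θ.hom.hom.fst := ‹𝒳.p.IsHomLift (𝟙 (𝒳.p.obj a)) φ›
    exact isHomLift_of_fst _ θ.hom
  let T : Over S := 𝒳.p.obj a
  let o₀ : (fp (diag f) (diag f)).obj := fpObj (F := diag f) (G := diag f) a a θ hθ
  let fb : (fp (diag f) (diag f)).p.Fiber T :=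
    Functor.Fiber.mk (p := (fp (diag f) (diag f)).p) (a := o₀) rfl
  let u : AlgSt.ofSch T ⥤ᵇ fp (diag f) (diag f) := BasedFunctor.comp (AlgSt.toOverCat T) (ofPoint fb)
  obtain ⟨κ⟩ := nonempty_evalAtId_ofPoint_iso fb
  let κ' : u.obj ⟨T, ⟨𝟙 T⟩⟩ ≅ o₀ :=
    ⟨κ.hom.1, κ.inv.1, congrArg Subtype.val κ.hom_inv_id, congrArg Subtype.val κ.inv_hom_id⟩
  have hD1 : AlgSt.RepByAlgSp1 (diag (diag f)) := repByAlgSp1_of_with hopen
  have hs' := (AlgStBig.surjective_iff_repByAlgSpWith hD1).mp hsurj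
  obtain ⟨H, π, hH, hπ, hPπ⟩ := (repByAlgSpWith_iff _ _).mp hopen T u
  have hπs := prop_of_along good_surjective.bc.precomp_iso hs' hπ
  haveI := AlgSpLib.isIso_of_openImmersion_surjective hPπ hπs
  obtain ⟨z, ⟨i⟩⟩ := AlgStBig.exists_section_of_mem hπ
  let ε : o₀ ≅ (diag (diag f)).obj z := κ'.symm ≪≫ i
  have w : (diag f).map ε.hom.hom.fst ≫ 𝟙 _ = θ.hom ≫ (diag f).map ε.hom.hom.snd := ε.hom.hom.w
  rw [Category.comp_id] at w
  have w1 : ε.hom.hom.fst = φ ≫ ε.hom.hom.snd := congrArg (fun t => t.hom.fst) w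
  have w2 : ε.hom.hom.fst = 𝟙 a ≫ ε.hom.hom.snd := congrArg (fun t => t.hom.snd) w
  haveI : IsIso ε.hom.hom.snd := (sndIso ε).isIso_hom
  exact (cancel_mono ε.hom.hom.snd).mp (w1.symm.trans w2)

/-- Trivial kernel at all objects over geometric points: faithful. -/
theorem faithful_of_geom_kerTriv {K K' : Precoverage Scheme.{u}} (h𝒳 : AlgSt.IsAlgStack K 𝒳)
    (h𝒴 : AlgSt.IsAlgStack K' 𝒴) (f : 𝒳 ⥤ᵇ 𝒴)
    (hker : ∀ (k : Type u) [Field k] [IsAlgClosed k] (s : Spec (CommRingCat.of k) ⟶ S) (x : 𝒳.obj),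
      𝒳.p.obj x = Over.mk s → ∀ (a : 𝒳.obj), (a ⟶ x) → KerTriv f a) : f.toFunctor.Faithful :=
  faithful_of_isDMMor_of_geom_kerTriv h𝒳 h𝒴 f (isDMMor_of_geom_kerTriv h𝒳 h𝒴 f hker)
    fun k _ _ s x hx => hker k s x hx x (𝟙 x)

end AlgStSetoidLib
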