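import Groth.Agent.AlgStSetoidLib.Basic
import Groth.Agent.AlgStBig.Points

/-!
# Universally injective morphisms and surjective diagonals
-/

set_option linter.all false
set_option autoImplicit false
set_option backward.isDefEq.respectTransparency false
set_option backward.isDefEq.respectTransparency.types false

universe u

open CategoryTheory CategoryTheory.Limits AlgebraicGeometry Opposite AlgSp FibCat FibLib AlgSpLib
open CategoryTheory.Functor (Fiber)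

namespace AlgStSetoidLib
open AlgStLib AlgStBig

variable {S : Scheme.{u}} {𝒳 𝒴 : AlgSt.Cat S}

theorem isSurjective_diag_of_isUnivInjective (h𝒳 : AlgSt.IsAlgStack Scheme.fppfPrecoverage 𝒳) (f : 𝒳 ⥤ᵇ 𝒴)
    (hf : AlgSt.IsUnivInjective Scheme.fppfPrecoverage f) : AlgSt.IsSurjective (diag f) := by
  intro w
  refine ⟨AlgSt.Points.map (FibCat.fpFst f f) w, hf 𝒳 h𝒳 f ?_⟩
  rw [← AlgStBig.map_comp]
  exact AlgStBig.map_id _

/-- A morphism with diagonal surjective on points has injective base changes. -/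
theorem injective_fpFst_of_isSurjective_diag [IsFibGrpd 𝒳.p] [IsFibGrpd 𝒴.p] {𝒯 : AlgSt.Cat S}
    [IsFibGrpd 𝒯.p] (f : 𝒳 ⥤ᵇ 𝒴) (hΔ : AlgSt.IsSurjective (diag f)) (g : 𝒯 ⥤ᵇ 𝒴) :
    Function.Injective (AlgSt.Points.map (FibCat.fpFst g f)) := by
  intro w w' hw
  haveI : IsFibGrpd (fp g f).p := isFibGrpd_fp
  haveI : IsFibGrpd (fp f f).p := isFibGrpd_fp
  obtain ⟨v, hv, hv'⟩ := AlgStBig.exists_point_fp (g := FibCat.fpFst g f) (f := FibCat.fpFst g f) w w' hw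
  obtain ⟨p, rfl⟩ := AlgSt.Points.mk_surjective v
  rw [← hv, ← hv']
  let W₁ := p.obj.obj.fst
  let W₂ := p.obj.obj.snd
  let θ : W₁.obj.fst ≅ W₂.obj.fst := p.obj.obj.iso
  have hθ : 𝒯.p.IsHomLift (𝟙 (𝒯.p.obj W₁.obj.fst)) θ.hom := p.obj.property
  have hz₂ : 𝒯.p.obj W₂.obj.fst = 𝒯.p.obj W₁.obj.fst :=
    @IsHomLift.codomain_eq _ _ _ _ 𝒯.p _ _ _ _ _ θ.hom hθ
  have ha₁ : 𝒳.p.obj W₁.obj.snd = 𝒯.p.obj W₁.obj.fst := (FibCat.fpSnd g f).w_obj W₁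
  haveI hι₁ : 𝒴.p.IsHomLift (𝟙 (𝒯.p.obj W₁.obj.fst)) W₁.obj.iso.hom := W₁.property
  haveI hι₂ : 𝒴.p.IsHomLift (𝟙 (𝒯.p.obj W₁.obj.fst)) W₂.obj.iso.hom := hz₂ ▸ W₂.property
  haveI hgθ : 𝒴.p.IsHomLift (𝟙 (𝒯.p.obj W₁.obj.fst)) (g.map θ.hom) :=
    @BasedFunctor.preserves_isHomLift _ _ _ _ g _ _ _ _ _ θ.hom hθ
  let γ : f.obj W₁.obj.snd ≅ f.obj W₂.obj.snd :=
    W₁.obj.iso.symm ≪≫ g.toFunctor.mapIso θ ≪≫ W₂.obj.iso
  have hγ : 𝒴.p.IsHomLift (𝟙 (𝒳.p.obj W₁.obj.snd)) γ.hom := by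
    rw [ha₁]
    simp only [γ, Iso.trans_hom, Iso.symm_hom, Functor.mapIso_hom]
    infer_instance
  let q : AlgSt.FPt (fp f f) :=
    { K := p.K, str := p.str, obj := fpObj W₁.obj.snd W₂.obj.snd γ hγ, lies := ha₁.trans p.lies }
  obtain ⟨x₀, hx₀⟩ := hΔ (AlgSt.Points.mk q)
  obtain ⟨r₀, rfl⟩ := AlgSt.Points.mk_surjective x₀
  obtain ⟨r, m, n, -⟩ := AlgStBig.mk_eq_mk_iff.mp hx₀
  let c := r.obj.obj.fst
  let c' := r.obj.obj.snd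
  let δ : f.obj c ≅ f.obj c' := r.obj.obj.iso
  let R : Over S := 𝒳.p.obj c
  let μ : R ⟶ 𝒳.p.obj r₀.obj := 𝒳.p.map m.hom.fst
  haveI hm₁ : 𝒳.p.IsHomLift μ m.hom.fst := IsHomLift.map _ _
  haveI hm₂ : 𝒳.p.IsHomLift μ m.hom.snd := FibCat.fp_isHomLift_snd f f m
  haveI : 𝒳.p.IsStronglyCartesian μ m.hom.snd :=
    (isStronglyCartesian_map_iff 𝒳.p μ m.hom.snd).mp (IsFibGrpd.isStronglyCartesian _)
  let χ : c ⟶ c' :=
    Functor.IsStronglyCartesian.map 𝒳.p μ m.hom.snd (g := 𝟙 R) (Category.id_comp μ).symm m.hom.fst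
  haveI hχ : 𝒳.p.IsHomLift (𝟙 R) χ :=
    Functor.IsStronglyCartesian.map_isHomLift 𝒳.p μ m.hom.snd (Category.id_comp μ).symm m.hom.fst
  have hχm : χ ≫ m.hom.snd = m.hom.fst :=
    Functor.IsStronglyCartesian.fac 𝒳.p μ m.hom.snd (Category.id_comp μ).symm m.hom.fst
  haveI : 𝒴.p.IsHomLift (𝟙 R) δ.hom := r.obj.property
  haveI : 𝒴.p.IsHomLift (𝟙 R) (f.map χ) := f.preserves_isHomLift _ χ
  haveI : 𝒴.p.IsHomLift μ (f.map m.hom.snd) := f.preserves_isHomLift _ m.hom.snd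
  haveI : 𝒴.p.IsStronglyCartesian μ (f.map m.hom.snd) :=
    (isStronglyCartesian_map_iff 𝒴.p μ (f.map m.hom.snd)).mp (IsFibGrpd.isStronglyCartesian _)
  have hχδ : f.map χ = δ.hom := by
    refine Functor.IsStronglyCartesian.ext 𝒴.p μ (f.map m.hom.snd) (𝟙 R) (ψ := f.map χ) (ψ' := δ.hom) ?_
    rw [← f.toFunctor.map_comp, hχm]
    have w : f.map m.hom.fst ≫ 𝟙 _ = δ.hom ≫ f.map m.hom.snd := m.hom.w
    rwa [Category.comp_id] at w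
  let β : R ⟶ 𝒳.p.obj W₁.obj.snd := 𝒳.p.map n.hom.fst
  obtain ⟨z', φ, hφ⟩ := FibLib.exists_lift 𝒯.p ha₁.symm β
  have hz' : 𝒯.p.obj z' = R := @IsHomLift.domain_eq _ _ _ _ 𝒯.p _ _ _ _ β φ hφ
  haveI := g.preserves_isHomLift β φ
  haveI : 𝒴.p.IsHomLift (𝟙 (𝒳.p.obj W₁.obj.snd)) W₁.obj.iso.hom := ha₁.symm ▸ hι₁
  haveI hn₁ : 𝒳.p.IsHomLift β n.hom.fst := IsHomLift.map _ _
  haveI : 𝒴.p.IsHomLift β (f.map n.hom.fst) := f.preserves_isHomLift _ n.hom.fst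
  haveI : 𝒴.p.IsStronglyCartesian β (f.map n.hom.fst) :=
    (isStronglyCartesian_map_iff 𝒴.p β (f.map n.hom.fst)).mp (IsFibGrpd.isStronglyCartesian _)
  haveI : 𝒴.p.IsHomLift β (g.map φ ≫ W₁.obj.iso.hom) :=
    IsHomLift.comp_lift_id_right 𝒴.p β (g.map φ) W₁.obj.iso.hom
  let i₁ := Functor.IsStronglyCartesian.map 𝒴.p β (f.map n.hom.fst) (g := 𝟙 R) (Category.id_comp β).symm
    (g.map φ ≫ W₁.obj.iso.hom)
  haveI hi₁ : 𝒴.p.IsHomLift (𝟙 R) i₁ :=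
    Functor.IsStronglyCartesian.map_isHomLift 𝒴.p β (f.map n.hom.fst) (Category.id_comp β).symm _
  have hi₁f : i₁ ≫ f.map n.hom.fst = g.map φ ≫ W₁.obj.iso.hom :=
    Functor.IsStronglyCartesian.fac 𝒴.p β (f.map n.hom.fst) (Category.id_comp β).symm _
  haveI : IsIso i₁ := isIso_of_isHomLift 𝒴.p (𝟙 R) i₁
  let A : (fp g f).obj := fpObj z' c (asIso i₁) (by rw [hz']; exact hi₁)
  let a : AlgSt.FPt (fp g f) := { K := r.K, str := r.str, obj := A, lies := hz'.trans r.lies }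
  have e₁ : AlgSt.Points.mk a = AlgSt.Points.map (FibCat.fpFst (FibCat.fpFst g f) (FibCat.fpFst g f)) (AlgSt.Points.mk p) :=
    AlgStBig.mk_eq_of_hom (q := p.map (FibCat.fpFst (FibCat.fpFst g f) (FibCat.fpFst g f)))
      (fpHom (x := A) (y := W₁) φ n.hom.fst hi₁f.symm)
  have e₂ : AlgSt.Points.mk a = AlgSt.Points.map (FibCat.fpSnd (FibCat.fpFst g f) (FibCat.fpFst g f)) (AlgSt.Points.mk p) :=
    AlgStBig.mk_eq_of_hom (q := p.map (FibCat.fpSnd (FibCat.fpFst g f) (FibCat.fpFst g f)))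
      (fpHom (x := A) (y := W₂) (φ ≫ θ.hom) (χ ≫ n.hom.snd) (by
        show g.map (φ ≫ θ.hom) ≫ W₂.obj.iso.hom = i₁ ≫ f.map (χ ≫ n.hom.snd)
        have wn : f.map n.hom.fst ≫ γ.hom = δ.hom ≫ f.map n.hom.snd := n.hom.w
        rw [f.toFunctor.map_comp, hχδ, ← wn, reassoc_of% hi₁f, g.toFunctor.map_comp]
        simp [γ]))
  exact e₁.symm.trans e₂

theorem isUnivInjective_iff_isSurjective_diag (h𝒳 : AlgSt.IsAlgStack Scheme.fppfPrecoverage 𝒳)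
    (h𝒴 : AlgSt.IsAlgStack Scheme.fppfPrecoverage 𝒴) (f : 𝒳 ⥤ᵇ 𝒴) :
    AlgSt.IsUnivInjective Scheme.fppfPrecoverage f ↔ AlgSt.IsSurjective (diag f) := by
  haveI := h𝒳.isStack.1
  haveI := h𝒴.isStack.1
  refine ⟨isSurjective_diag_of_isUnivInjective h𝒳 f, fun h 𝒯 h𝒯 g => ?_⟩
  haveI := h𝒯.isStack.1
  exact injective_fpFst_of_isSurjective_diag f h g

end AlgStSetoidLib
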